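import Groth.Agent.H1WittDesc.Ext

/-!
# Equalizer of extensions of scalars
-/

set_option autoImplicit false
set_option backward.isDefEq.respectTransparency false

universe u

open CategoryTheory TensorProduct

open scoped ChangeOfRings

namespace Groth.Agent.H1WittDesc

variable {R₁ R₂ R₃ : Type u} [CommRing R₁] [CommRing R₂] [CommRing R₃]

/-- Extension of scalars, as the tensor product in the other order. -/
noncomputable def toT (f : R₁ →+* R₂) (N : ModuleCat.{u} R₁) :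
    letI := f.toAlgebra
    ((ModuleCat.extendScalars.{u, u, u} f).obj N) ≃+ (N ⊗[R₁] R₂) :=
  letI := f.toAlgebra
  (TensorProduct.comm R₁ R₂ N).toAddEquiv

theorem toT_tmul (f : R₁ →+* R₂) (N : ModuleCat.{u} R₁) (s : R₂) (x : N) :
    letI := f.toAlgebra
    toT f N (s ⊗ₜ[R₁,f] x) = x ⊗ₜ[R₁] s := rfl

theorem tmul_eq_smul (f : R₁ →+* R₂) (N : ModuleCat.{u} R₁) (s : R₂) (x : N) :
    (s ⊗ₜ[R₁,f] x : (ModuleCat.extendScalars.{u, u, u} f).obj N) = s • (one' f N x) := by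
  show _ = s • ((1 : R₂) ⊗ₜ[R₁,f] x)
  rw [ModuleCat.ExtendScalars.smul_tmul, mul_one]

theorem inv_one_tmul (f : R₁ →+* R₂) (g : R₂ →+* R₃) (fg : R₁ →+* R₃)
    (N : ModuleCat.{u} R₁)
    (β : (ModuleCat.extendScalars.{u, u, u} g).obj ((ModuleCat.extendScalars.{u, u, u} f).obj N) ⟶
      (ModuleCat.extendScalars.{u, u, u} fg).obj N)
    (hβ : ∀ m : N, β (one' g _ (one' f N m)) = one' fg N m) (s : R₂) (x : N) :
    β (one' g _ (s ⊗ₜ[R₁,f] x)) = g s ⊗ₜ[R₁,fg] x := by
  rw [tmul_eq_smul, map_smulₛₗ, map_smul, hβ]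
  exact (tmul_eq_smul fg N (g s) x).symm

theorem toT_inv (f : R₁ →+* R₂) (g : R₂ →+* R₃) (fg : R₁ →+* R₃) (h : fg = g.comp f)
    (N : ModuleCat.{u} R₁)
    (β : (ModuleCat.extendScalars.{u, u, u} g).obj ((ModuleCat.extendScalars.{u, u, u} f).obj N) ⟶
      (ModuleCat.extendScalars.{u, u, u} fg).obj N)
    (hβ : ∀ m : N, β (one' g _ (one' f N m)) = one' fg N m)
    (z : (ModuleCat.extendScalars.{u, u, u} f).obj N) :
    letI := f.toAlgebra
    letI := fg.toAlgebra
    toT fg N (β (one' g _ z)) =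
      LinearMap.lTensor N (AlgHom.toLinearMap
        (⟨g, fun r => (RingHom.congr_fun h r).symm⟩ : R₂ →ₐ[R₁] R₃)) (toT f N z) := by
  letI := f.toAlgebra
  letI := fg.toAlgebra
  induction z using TensorProduct.induction_on with
  | zero =>
    have e : one' g ((ModuleCat.extendScalars.{u, u, u} f).obj N) 0 = 0 := map_zero _
    exact (congrArg (fun t => toT fg N (β t)) e).trans
      ((congrArg (toT fg N) (map_zero _)).trans ((map_zero (toT fg N)).trans (by simp)))
  | add a b ha hb =>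
    have e : one' g _ (a + b) = one' g ((ModuleCat.extendScalars.{u, u, u} f).obj N) a +
        one' g ((ModuleCat.extendScalars.{u, u, u} f).obj N) b := map_add _ a b
    refine (congrArg (fun t => toT fg N (β t)) e).trans ?_
    refine ((congrArg (toT fg N) (map_add _ _ _)).trans (map_add (toT fg N) _ _)).trans ?_
    rw [ha, hb]
    exact ((congrArg _ (map_add (toT f N) a b)).trans (map_add _ _ _)).symm
  | tmul s x => exact (congrArg (toT fg N) (inv_one_tmul f g fg N β hβ s x)).trans rfl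

theorem toT_one (f : R₁ →+* R₂) (N : ModuleCat.{u} R₁) (x : N) :
    letI := f.toAlgebra
    toT f N (one' f N x) = x ⊗ₜ[R₁] (1 : R₂) := rfl

/-- If an element of the extension has the same image along two maps, it comes from below,
provided the equalizer sequence of the module is exact. -/
theorem exists_one_of_inv_eq (f : R₁ →+* R₂) (g₁ g₂ : R₂ →+* R₃) (fg : R₁ →+* R₃)
    (h₁ : fg = g₁.comp f) (h₂ : fg = g₂.comp f) (N : ModuleCat.{u} R₁)
    (hex : letI := f.toAlgebra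
      letI := fg.toAlgebra
      ∀ x : N ⊗[R₁] R₂,
        LinearMap.lTensor N (AlgHom.toLinearMap
          (⟨g₁, fun r => (RingHom.congr_fun h₁ r).symm⟩ : R₂ →ₐ[R₁] R₃)) x =
        LinearMap.lTensor N (AlgHom.toLinearMap
          (⟨g₂, fun r => (RingHom.congr_fun h₂ r).symm⟩ : R₂ →ₐ[R₁] R₃)) x →
        ∃ m : N, m ⊗ₜ[R₁] (1 : R₂) = x)
    (z : (ModuleCat.extendScalars.{u, u, u} f).obj N)
    (β₁ : (ModuleCat.extendScalars.{u, u, u} g₁).obj ((ModuleCat.extendScalars.{u, u, u} f).obj N) ⟶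
      (ModuleCat.extendScalars.{u, u, u} fg).obj N)
    (hβ₁ : ∀ m : N, β₁ (one' g₁ _ (one' f N m)) = one' fg N m)
    (β₂ : (ModuleCat.extendScalars.{u, u, u} g₂).obj ((ModuleCat.extendScalars.{u, u, u} f).obj N) ⟶
      (ModuleCat.extendScalars.{u, u, u} fg).obj N)
    (hβ₂ : ∀ m : N, β₂ (one' g₂ _ (one' f N m)) = one' fg N m)
    (hz : β₁ (one' g₁ _ z) = β₂ (one' g₂ _ z)) :
    ∃ m : N, one' f N m = z := by
  letI := f.toAlgebra
  letI := fg.toAlgebra
  obtain ⟨m, hm⟩ := hex (toT f N z) (by rw [← toT_inv f g₁ fg h₁ N β₁ hβ₁, ← toT_inv f g₂ fg h₂ N β₂ hβ₂, hz])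
  exact ⟨m, (toT f N).injective (by rw [toT_one, hm])⟩

/-- The extension of scalars is injective on morphisms. -/
theorem map_injective (f : R₁ →+* R₂) {M N : ModuleCat.{u} R₁}
    (hinj : letI := f.toAlgebra; Function.Injective (fun m : N => m ⊗ₜ[R₁] (1 : R₂)))
    {φ ψ : M ⟶ N}
    (h : (ModuleCat.extendScalars.{u, u, u} f).map φ = (ModuleCat.extendScalars.{u, u, u} f).map ψ) :
    φ = ψ := by
  letI := f.toAlgebra
  apply ModuleCat.hom_ext
  refine LinearMap.ext fun m => hinj ?_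
  have e := congrArg (fun a => toT f N (a (one' f M m))) h
  simp only [map_one'] at e
  exact e

theorem exists_map_eq (f : R₁ →+* R₂) (g₁ g₂ : R₂ →+* R₃) (fg : R₁ →+* R₃)
    (h₁ : fg = g₁.comp f) (h₂ : fg = g₂.comp f) {M N : ModuleCat.{u} R₁}
    (hinj : letI := f.toAlgebra; Function.Injective (fun m : N => m ⊗ₜ[R₁] (1 : R₂)))
    (hex : letI := f.toAlgebra
      letI := fg.toAlgebra
      ∀ x : N ⊗[R₁] R₂,
        LinearMap.lTensor N (AlgHom.toLinearMap
          (⟨g₁, fun r => (RingHom.congr_fun h₁ r).symm⟩ : R₂ →ₐ[R₁] R₃)) x =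
        LinearMap.lTensor N (AlgHom.toLinearMap
          (⟨g₂, fun r => (RingHom.congr_fun h₂ r).symm⟩ : R₂ →ₐ[R₁] R₃)) x →
        ∃ m : N, m ⊗ₜ[R₁] (1 : R₂) = x)
    (g₀ : (ModuleCat.extendScalars.{u, u, u} f).obj M ⟶ (ModuleCat.extendScalars.{u, u, u} f).obj N)
    (b₁ : (ModuleCat.extendScalars.{u, u, u} g₁).obj ((ModuleCat.extendScalars.{u, u, u} f).obj M) ⟶
      (ModuleCat.extendScalars.{u, u, u} fg).obj M)
    (hb₁ : ∀ m : M, b₁ (one' g₁ _ (one' f M m)) = one' fg M m)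
    (a₂ : (ModuleCat.extendScalars.{u, u, u} fg).obj M ⟶
      (ModuleCat.extendScalars.{u, u, u} g₂).obj ((ModuleCat.extendScalars.{u, u, u} f).obj M))
    (ha₂ : ∀ m : M, a₂ (one' fg M m) = one' g₂ _ (one' f M m))
    (β₁ : (ModuleCat.extendScalars.{u, u, u} g₁).obj ((ModuleCat.extendScalars.{u, u, u} f).obj N) ⟶
      (ModuleCat.extendScalars.{u, u, u} fg).obj N)
    (hβ₁ : ∀ m : N, β₁ (one' g₁ _ (one' f N m)) = one' fg N m)
    (α₂ : (ModuleCat.extendScalars.{u, u, u} fg).obj N ⟶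
      (ModuleCat.extendScalars.{u, u, u} g₂).obj ((ModuleCat.extendScalars.{u, u, u} f).obj N))
    (β₂ : (ModuleCat.extendScalars.{u, u, u} g₂).obj ((ModuleCat.extendScalars.{u, u, u} f).obj N) ⟶
      (ModuleCat.extendScalars.{u, u, u} fg).obj N)
    (hβ₂ : ∀ m : N, β₂ (one' g₂ _ (one' f N m)) = one' fg N m)
    (hαβ : α₂ ≫ β₂ = 𝟙 _)
    (hcomm : (ModuleCat.extendScalars.{u, u, u} g₁).map g₀ ≫ β₁ ≫ α₂ =
      (b₁ ≫ a₂) ≫ (ModuleCat.extendScalars.{u, u, u} g₂).map g₀) :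
    ∃ φ : M ⟶ N, (ModuleCat.extendScalars.{u, u, u} f).map φ = g₀ := by
  letI := f.toAlgebra
  have key : ∀ m : M, ∃ x : N, one' f N x = g₀ (one' f M m) := by
    intro m
    refine exists_one_of_inv_eq f g₁ g₂ fg h₁ h₂ N hex (g₀ (one' f M m)) β₁ hβ₁ β₂ hβ₂ ?_
    have e : α₂ (β₁ (one' g₁ _ (g₀ (one' f M m)))) = one' g₂ _ (g₀ (one' f M m)) := by
      have e' := congrArg (fun a => a (one' g₁ _ (one' f M m))) hcomm
      simp only [ModuleCat.comp_apply, map_one', hb₁, ha₂] at e'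
      exact e'
    have e2 := congrArg β₂ e
    rw [← ModuleCat.comp_apply, hαβ] at e2
    exact e2
  choose φ hφ using key
  have hi : Function.Injective (one' f N) := fun a b h => hinj (congrArg (toT f N) h)
  refine ⟨ModuleCat.ofHom
    { toFun := φ
      map_add' := fun a b => hi (by rw [hφ, map_add, map_add, map_add, hφ, hφ])
      map_smul' := fun r a => hi (by
        rw [hφ, map_smulₛₗ, map_smul, RingHom.id_apply, map_smulₛₗ, hφ]) }, ?_⟩
  refine ext_one fun m => ?_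
  rw [map_one']
  exact hφ m

end Groth.Agent.H1WittDesc
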