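import Groth.Agent.H1WittDesc.Alg
import Mathlib

/-!
# Coordinates on extensions of scalars of a split projective module
-/

set_option autoImplicit false
set_option backward.isDefEq.respectTransparency false

universe u

open CategoryTheory TensorProduct Matrix

open scoped ChangeOfRings

namespace Groth.Agent.H1WittDesc

variable {R₁ R₂ R₃ R₄ : Type u} [CommRing R₁] [CommRing R₂] [CommRing R₃] [CommRing R₄] {m : ℕ}
  (N : ModuleCat.{u} R₂) (s : N →ₗ[R₂] (Fin m → R₂)) (r : (Fin m → R₂) →ₗ[R₂] N)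

/-- Coordinates on an extension of scalars. -/
noncomputable def toC (f : R₂ →+* R₃) :
    (ModuleCat.extendScalars.{u, u, u} f).obj N →ₗ[R₃] (Fin m → R₃) :=
  letI := f.toAlgebra
  LinearMap.liftBaseChange R₃ ((Algebra.linearMap R₂ R₃).compLeft (Fin m) ∘ₗ s)

/-- The element with given coordinates. -/
noncomputable def ofC (f : R₂ →+* R₃) :
    (Fin m → R₃) →ₗ[R₃] (ModuleCat.extendScalars.{u, u, u} f).obj N :=
  Fintype.linearCombination R₃ fun j => one' f N (r (Pi.single j 1))

theorem toC_tmul (f : R₂ →+* R₃) (t : R₃) (x : N) :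
    toC N s f (t ⊗ₜ[R₂,f] x) = t • (f ∘ s x) := by
  letI := f.toAlgebra
  exact LinearMap.liftBaseChange_tmul R₃ ((Algebra.linearMap R₂ R₃).compLeft (Fin m) ∘ₗ s) t x

theorem toC_one (f : R₂ →+* R₃) (x : N) : toC N s f (one' f N x) = f ∘ s x :=
  (toC_tmul N s f 1 x).trans (one_smul _ _)

theorem eq_sum_single {A : Type*} [CommRing A] (v : Fin m → A) :
    v = ∑ j, v j • (Pi.single j (1 : A) : Fin m → A) := by
  funext l; simp [Pi.single_apply]

theorem ofC_comp (f : R₂ →+* R₃) (v : Fin m → R₂) : ofC N r f (f ∘ v) = one' f N (r v) := by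
  conv_rhs => rw [eq_sum_single v, map_sum, map_sum]
  rw [ofC, Fintype.linearCombination_apply]
  refine Finset.sum_congr rfl fun j _ => ?_
  rw [map_smul, map_smulₛₗ]
  rfl

theorem ofC_single (f : R₂ →+* R₃) (j : Fin m) :
    ofC N r f (Pi.single j 1) = one' f N (r (Pi.single j 1)) := by
  rw [← ofC_comp N r f]
  congr 1
  funext i
  by_cases h : i = j
  · subst h; simp
  · simp [h]

theorem map_comp_mulVec' {A B : Type*} [CommRing A] [CommRing B] {k k' : ℕ} (f : A →+* B)
    (M : Matrix (Fin k') (Fin k) A) (v : Fin k → A) : f ∘ (M *ᵥ v) = (M.map f) *ᵥ (f ∘ v) :=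
  funext fun i => RingHom.map_mulVec f M v i

variable (hrs : ∀ x, r (s x) = x)
include hrs

theorem ofC_toC (f : R₂ →+* R₃) (z : (ModuleCat.extendScalars.{u, u, u} f).obj N) :
    ofC N r f (toC N s f z) = z := by
  have h : ModuleCat.ofHom ((ofC N r f).comp (toC N s f)) = 𝟙 _ := ext_one fun x => by
    show ofC N r f (toC N s f (one' f N x)) = one' f N x
    rw [toC_one, ofC_comp, hrs]
  exact congrArg (fun a => a z) h

theorem toC_injective (f : R₂ →+* R₃) : Function.Injective (toC N s f) :=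
  Function.LeftInverse.injective (ofC_toC N s r hrs f)

omit hrs

/-- The matrix of a map between extensions of scalars. -/
noncomputable def mat (f g : R₂ →+* R₃)
    (h : (ModuleCat.extendScalars.{u, u, u} f).obj N ⟶ (ModuleCat.extendScalars.{u, u, u} g).obj N) :
    Matrix (Fin m) (Fin m) R₃ :=
  LinearMap.toMatrix' (toC N s g ∘ₗ h.hom ∘ₗ ofC N r f)

theorem mat_mulVec (f g : R₂ →+* R₃)
    (h : (ModuleCat.extendScalars.{u, u, u} f).obj N ⟶ (ModuleCat.extendScalars.{u, u, u} g).obj N)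
    (v : Fin m → R₃) : mat N s r f g h *ᵥ v = toC N s g (h (ofC N r f v)) := by
  rw [← Matrix.toLin'_apply, mat, Matrix.toLin'_toMatrix']
  rfl

theorem mat_id (f : R₂ →+* R₃) : mat N s r f f (𝟙 _) = (LinearMap.toMatrix' (s ∘ₗ r)).map f := by
  refine Matrix.ext fun i j => ?_
  rw [mat, LinearMap.toMatrix'_apply, Matrix.map_apply, LinearMap.toMatrix'_apply]
  show toC N s f (ofC N r f (Pi.single j 1)) i = _
  rw [ofC_single, toC_one]
  rfl

include hrs

theorem mat_comp (f g h : R₂ →+* R₃)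
    (a : (ModuleCat.extendScalars.{u, u, u} f).obj N ⟶ (ModuleCat.extendScalars.{u, u, u} g).obj N)
    (b : (ModuleCat.extendScalars.{u, u, u} g).obj N ⟶ (ModuleCat.extendScalars.{u, u, u} h).obj N) :
    mat N s r g h b * mat N s r f g a = mat N s r f h (a ≫ b) := by
  rw [mat, mat, mat, ← LinearMap.toMatrix'_comp]
  congr 1
  refine LinearMap.ext fun v => ?_
  show toC N s h (b (ofC N r g (toC N s g (a (ofC N r f v))))) = toC N s h (b (a (ofC N r f v)))
  rw [ofC_toC N s r hrs]

theorem apply_one (f g : R₂ →+* R₃)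
    (h : (ModuleCat.extendScalars.{u, u, u} f).obj N ⟶ (ModuleCat.extendScalars.{u, u, u} g).obj N)
    (x : N) : toC N s g (h (one' f N x)) = mat N s r f g h *ᵥ (f ∘ s x) := by
  rw [mat_mulVec, ofC_comp, hrs]

omit hrs

theorem smul_comp_tail (g : R₂ →+* R₃) (k : R₃ →+* R₄) (t : R₃) (w : Fin m → R₂) :
    k t • (k.comp g ∘ w) = k ∘ (t • (g ∘ w)) :=
  funext fun i => (map_mul k t (g (w i))).symm

theorem toC_push (g : R₂ →+* R₃) (k : R₃ →+* R₄) (g' : R₂ →+* R₄)
    (β : (ModuleCat.extendScalars.{u, u, u} k).obj ((ModuleCat.extendScalars.{u, u, u} g).obj N) ⟶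
      (ModuleCat.extendScalars.{u, u, u} g').obj N)
    (hg : g' = k.comp g)
    (hβ : ∀ x : N, β (one' k _ (one' g N x)) = one' g' N x)
    (z : (ModuleCat.extendScalars.{u, u, u} g).obj N) :
    toC N s g' (β (one' k _ z)) = k ∘ toC N s g z := by
  induction z using TensorProduct.induction_on with
  | zero =>
    have e : one' k ((ModuleCat.extendScalars.{u, u, u} g).obj N) 0 = 0 := map_zero _
    refine ((congrArg (fun t => toC N s g' (β t)) e).trans
      ((congrArg (toC N s g') (map_zero _)).trans (map_zero (toC N s g')))).trans ?_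
    funext i
    exact ((congrArg (fun w => k (w i)) (map_zero (toC N s g))).trans (map_zero k)).symm
  | add a b ha hb =>
    have e : one' k _ (a + b) = one' k ((ModuleCat.extendScalars.{u, u, u} g).obj N) a +
        one' k ((ModuleCat.extendScalars.{u, u, u} g).obj N) b := map_add _ a b
    refine (congrArg (fun t => toC N s g' (β t)) e).trans ?_
    refine ((congrArg (toC N s g') (map_add _ _ _)).trans (map_add (toC N s g') _ _)).trans ?_
    rw [ha, hb]
    funext i
    exact ((congrArg (fun w => k (w i)) (map_add (toC N s g) a b)).trans (map_add k _ _)).symm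
  | tmul t x =>
    refine (congrArg (toC N s g') (inv_one_tmul g k g' N β hβ t x)).trans ?_
    refine (toC_tmul N s g' (k t) x).trans (Eq.trans ?_ (congrArg (fun w => k ∘ w) (toC_tmul N s g t x)).symm)
    subst hg
    exact smul_comp_tail g k t (s x)

theorem mat_push (f g : R₂ →+* R₃) (k : R₃ →+* R₄) (f' g' : R₂ →+* R₄) (hg : g' = k.comp g)
    (h : (ModuleCat.extendScalars.{u, u, u} f).obj N ⟶ (ModuleCat.extendScalars.{u, u, u} g).obj N)
    (h' : (ModuleCat.extendScalars.{u, u, u} f').obj N ⟶ (ModuleCat.extendScalars.{u, u, u} g').obj N)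
    (β : (ModuleCat.extendScalars.{u, u, u} k).obj ((ModuleCat.extendScalars.{u, u, u} g).obj N) ⟶
      (ModuleCat.extendScalars.{u, u, u} g').obj N)
    (hβ : ∀ x : N, β (one' k _ (one' g N x)) = one' g' N x)
    (hh : ∀ x : N, h' (one' f' N x) = β (one' k _ (h (one' f N x)))) :
    mat N s r f' g' h' = (mat N s r f g h).map k := by
  refine Matrix.ext fun i j => ?_
  rw [mat, mat, LinearMap.toMatrix'_apply, Matrix.map_apply, LinearMap.toMatrix'_apply]
  show toC N s g' (h' (ofC N r f' (Pi.single j 1))) i = k (toC N s g (h (ofC N r f (Pi.single j 1))) i)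
  rw [ofC_single, ofC_single, hh, toC_push N s g k g' β hg hβ]
  rfl

variable (c : R₁ →+* R₂) {l : ℕ} (ε : Matrix (Fin l) (Fin l) R₁)

/-- The module cut out by an idempotent matrix. -/
noncomputable abbrev idemMod : ModuleCat.{u} R₁ := ModuleCat.of R₁ (LinearMap.range ε.mulVecLin)

theorem idemMod_mulVec (hε : ε * ε = ε) (v : idemMod ε) : ε *ᵥ v.1 = v.1 := by
  obtain ⟨v, w, rfl⟩ := v
  show ε *ᵥ (ε *ᵥ w) = ε *ᵥ w
  rw [Matrix.mulVec_mulVec, hε]

/-- The coordinates on the extension of the module of an idempotent matrix. -/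
noncomputable def idemC : (ModuleCat.extendScalars.{u, u, u} c).obj (idemMod ε) →ₗ[R₂] (Fin l → R₂) :=
  toC (idemMod ε) (LinearMap.range ε.mulVecLin).subtype c

/-- The section of the coordinates. -/
noncomputable def idemS : (Fin l → R₂) →ₗ[R₂] (ModuleCat.extendScalars.{u, u, u} c).obj (idemMod ε) :=
  ofC (idemMod ε) ε.mulVecLin.rangeRestrict c

include hrs

theorem exists_iso (hε : ε * ε = ε) (A : Matrix (Fin m) (Fin l) R₂) (L : Matrix (Fin l) (Fin m) R₂)
    (hA : A * ε.map c = A) (hLA : L * A = ε.map c) (hAL : A * L = LinearMap.toMatrix' (s ∘ₗ r)) :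
    ∃ ι : (ModuleCat.extendScalars.{u, u, u} c).obj (idemMod ε) ≅ N,
      ∀ v : idemMod ε, s (ι.hom (one' c _ v)) = A *ᵥ (c ∘ v.1) := by
  have hsr : ∀ w, LinearMap.toMatrix' (s ∘ₗ r) *ᵥ w = s (r w) := fun w => by
    rw [← Matrix.toLin'_apply, Matrix.toLin'_toMatrix']
    rfl
  have heA : LinearMap.toMatrix' (s ∘ₗ r) * A = A := by
    rw [← hAL, Matrix.mul_assoc, hLA, hA]
  have key : ∀ v : idemMod ε, idemS c ε (c ∘ v.1) = one' c _ v := fun v => by
    rw [idemS, ofC_comp]
    congr 1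
    exact Subtype.ext (idemMod_mulVec ε hε v)
  have hs : ∀ w : Fin l → R₂, idemC c ε (idemS c ε w) = ε.map c *ᵥ w := fun w => by
    have hl : (idemC c ε).comp (idemS c ε) = (ε.map c).mulVecLin := by
      refine LinearMap.pi_ext' fun j => LinearMap.ext_ring ?_
      show idemC c ε (idemS c ε (Pi.single j 1)) = ε.map c *ᵥ Pi.single j 1
      rw [idemS, ofC_single, idemC, toC_one, Matrix.mulVec_single_one]
      funext i
      show c ((ε *ᵥ Pi.single j 1) i) = _
      rw [Matrix.mulVec_single_one]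
      rfl
    exact LinearMap.congr_fun hl w
  let fwd := ModuleCat.ofHom (r ∘ₗ A.mulVecLin ∘ₗ idemC c ε)
  let bwd := ModuleCat.ofHom (idemS c ε ∘ₗ L.mulVecLin ∘ₗ s)
  refine ⟨⟨fwd, bwd, ext_one fun v => ?_, ModuleCat.hom_ext (LinearMap.ext fun y => ?_)⟩, fun v => ?_⟩
  · show idemS c ε (L *ᵥ s (r (A *ᵥ idemC c ε (one' c _ v)))) = one' c _ v
    rw [idemC, toC_one, ← hsr, Matrix.mulVec_mulVec, Matrix.mulVec_mulVec, Matrix.mul_assoc, heA, hLA, Submodule.subtype_apply,
      ← map_comp_mulVec' c ε v.1, idemMod_mulVec ε hε v, key]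
  · show r (A *ᵥ idemC c ε (idemS c ε (L *ᵥ s y))) = y
    rw [hs, Matrix.mulVec_mulVec, hA, Matrix.mulVec_mulVec, hAL, hsr, hrs, hrs]
  · show s (r (A *ᵥ idemC c ε (one' c _ v))) = _
    rw [idemC, toC_one, ← hsr, Matrix.mulVec_mulVec, heA]
    rfl

end Groth.Agent.H1WittDesc
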