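import Groth.Agent.H1WittDesc.PF
import Groth.Agent.H1WittDesc.Coord
import Mathlib

/-!
# Descent data in coordinates
-/

set_option autoImplicit false
set_option backward.isDefEq.respectTransparency false

universe u v w

open CategoryTheory Opposite Matrix TensorProduct

open scoped ChangeOfRings

namespace Groth.Agent.H1WittDesc

variable {D : Type w} [Category.{v} D] (P : Dᵒᵖ ⥤ CommRingCat.{u}) {X Y Z Z' : D} (c : Y ⟶ X)
  (Dd : (G P).DescentData (fun _ : PUnit.{u + 1} => c))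

theorem genPull {C : Type w} [Category.{v} C] (H : Pseudofunctor (LocallyDiscrete Cᵒᵖ) Cat.{u, u + 1})
    {X Y Z Z' : C} (c : Y ⟶ X) (Dd : H.DescentData (fun _ : PUnit.{u + 1} => c))
    (q : Z ⟶ X) (q' : Z' ⟶ X) (g : Z' ⟶ Z) (hq : g ≫ q = q') (a b : Z ⟶ Y) (ha : a ≫ c = q)
    (hb : b ≫ c = q) (a' b' : Z' ⟶ Y) (ha' : g ≫ a = a') (hb' : g ≫ b = b') :
    (H.mapComp' a.op.toLoc g.op.toLoc a'.op.toLoc (by rw [← ha']; rfl)).hom.toNatTrans.app (Dd.obj PUnit.unit) ≫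
        (H.map g.op.toLoc).toFunctor.map (Dd.hom (i₁ := PUnit.unit) (i₂ := PUnit.unit) q a b ha hb) ≫
        (H.mapComp' b.op.toLoc g.op.toLoc b'.op.toLoc (by rw [← hb']; rfl)).inv.toNatTrans.app (Dd.obj PUnit.unit) =
      Dd.hom (i₁ := PUnit.unit) (i₂ := PUnit.unit) q' a' b' (by rw [← ha', Category.assoc, ha, hq])
        (by rw [← hb', Category.assoc, hb, hq]) :=
  Dd.pullHom_hom g q q' hq (i₁ := PUnit.unit) (i₂ := PUnit.unit) a b ha hb a' b' ha' hb'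

theorem genIso {C : Type w} [Category.{v} C] (H : Pseudofunctor (LocallyDiscrete Cᵒᵖ) Cat.{u, u + 1})
    {X Y : C} (c : Y ⟶ X) (Dd : H.DescentData (fun _ : PUnit.{u + 1} => c)) (M : H.obj (.mk (op X)))
    (ι : (H.map c.op.toLoc).toFunctor.obj M ≅ Dd.obj PUnit.unit)
    (key : ∀ (Z : C) (q : Z ⟶ X) (f₁ f₂ : Z ⟶ Y) (hf₁ : f₁ ≫ c = q) (hf₂ : f₂ ≫ c = q),
      (H.map f₁.op.toLoc).toFunctor.map ι.hom ≫
          Dd.hom (i₁ := PUnit.unit) (i₂ := PUnit.unit) q f₁ f₂ hf₁ hf₂ =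
        ((H.mapComp' c.op.toLoc f₁.op.toLoc q.op.toLoc (by rw [← hf₁]; rfl)).inv.toNatTrans.app M ≫
          (H.mapComp' c.op.toLoc f₂.op.toLoc q.op.toLoc (by rw [← hf₂]; rfl)).hom.toNatTrans.app M) ≫
          (H.map f₂.op.toLoc).toFunctor.map ι.hom) :
    Nonempty ((H.toDescentData (fun _ : PUnit.{u + 1} => c)).obj M ≅ Dd) :=
  ⟨Pseudofunctor.DescentData.isoMk (fun _ => ι) (fun Z q _ _ f₁ f₂ hf₁ hf₂ => key Z q f₁ f₂ hf₁ hf₂)⟩

/-- The underlying module. -/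
noncomputable abbrev dObj : ModuleCat.{u} (P.obj (op Y)) := Dd.obj PUnit.unit

/-- The gluing map, between extensions of scalars. -/
noncomputable def dHom (q : Z ⟶ X) (a b : Z ⟶ Y) (ha : a ≫ c = q) (hb : b ≫ c = q) :
    (ModuleCat.extendScalars.{u, u, u} (rho P a)).obj (dObj P c Dd) ⟶
      (ModuleCat.extendScalars.{u, u, u} (rho P b)).obj (dObj P c Dd) :=
  Dd.hom (i₁ := PUnit.unit) (i₂ := PUnit.unit) q a b ha hb

theorem dHom_self (q : Z ⟶ X) (a : Z ⟶ Y) (ha : a ≫ c = q) : dHom P c Dd q a a ha ha = 𝟙 _ :=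
  Dd.hom_self q a ha

theorem dHom_comp (q : Z ⟶ X) (a b b' : Z ⟶ Y) (ha : a ≫ c = q) (hb : b ≫ c = q) (hb' : b' ≫ c = q) :
    dHom P c Dd q a b ha hb ≫ dHom P c Dd q b b' hb hb' = dHom P c Dd q a b' ha hb' :=
  Dd.hom_comp q a b b' ha hb hb'

theorem pull_convert (N : ModuleCat.{u} (P.obj (op Y))) (g : Z' ⟶ Z) (a b : Z ⟶ Y) (a' b' : Z' ⟶ Y)
    (ha' : g ≫ a = a') (hb' : g ≫ b = b')
    (h : (ModuleCat.extendScalars.{u, u, u} (rho P a)).obj N ⟶ (ModuleCat.extendScalars.{u, u, u} (rho P b)).obj N)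
    (h' : (ModuleCat.extendScalars.{u, u, u} (rho P a')).obj N ⟶ (ModuleCat.extendScalars.{u, u, u} (rho P b')).obj N)
    (e : ((G P).mapComp' a.op.toLoc g.op.toLoc a'.op.toLoc (by rw [← ha']; rfl)).hom.toNatTrans.app N ≫
        ((G P).map g.op.toLoc).toFunctor.map h ≫
        ((G P).mapComp' b.op.toLoc g.op.toLoc b'.op.toLoc (by rw [← hb']; rfl)).inv.toNatTrans.app N = h') :
    cHom P a g a' ha' N ≫ (ModuleCat.extendScalars.{u, u, u} (rho P g)).map h ≫ cInv P b g b' hb' N = h' := by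
  rw [← map_eq P g]
  exact e

theorem dHom_pull (q : Z ⟶ X) (q' : Z' ⟶ X) (g : Z' ⟶ Z) (hq : g ≫ q = q') (a b : Z ⟶ Y) (ha : a ≫ c = q)
    (hb : b ≫ c = q) (a' b' : Z' ⟶ Y) (ha' : g ≫ a = a') (hb' : g ≫ b = b') :
    cHom P a g a' ha' (dObj P c Dd) ≫
        (ModuleCat.extendScalars.{u, u, u} (rho P g)).map (dHom P c Dd q a b ha hb) ≫
        cInv P b g b' hb' (dObj P c Dd) =
      dHom P c Dd q' a' b' (by rw [← ha', Category.assoc, ha, hq]) (by rw [← hb', Category.assoc, hb, hq]) :=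
  pull_convert P (dObj P c Dd) g a b a' b' ha' hb' _ _ (genPull (G P) c Dd q q' g hq a b ha hb a' b' ha' hb')

theorem dHom_pull_one (q : Z ⟶ X) (q' : Z' ⟶ X) (g : Z' ⟶ Z) (hq : g ≫ q = q') (a b : Z ⟶ Y) (ha : a ≫ c = q)
    (hb : b ≫ c = q) (a' b' : Z' ⟶ Y) (ha' : g ≫ a = a') (hb' : g ≫ b = b') (ha'' : a' ≫ c = q')
    (hb'' : b' ≫ c = q') (x : dObj P c Dd) :
    dHom P c Dd q' a' b' ha'' hb'' (one' (rho P a') _ x) =
      cInv P b g b' hb' (dObj P c Dd) (one' (rho P g) _ (dHom P c Dd q a b ha hb (one' (rho P a) _ x))) := by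
  rw [← dHom_pull P c Dd q q' g hq a b ha hb a' b' ha' hb']
  rw [ModuleCat.comp_apply, ModuleCat.comp_apply, cHom_one, map_one']

variable {m : ℕ} (s : dObj P c Dd →ₗ[P.obj (op Y)] (Fin m → P.obj (op Y)))
  (r : (Fin m → P.obj (op Y)) →ₗ[P.obj (op Y)] dObj P c Dd)

/-- The transition matrix. -/
noncomputable def dMat (q : Z ⟶ X) (a b : Z ⟶ Y) (ha : a ≫ c = q) (hb : b ≫ c = q) :
    Matrix (Fin m) (Fin m) (P.obj (op Z)) :=
  mat (dObj P c Dd) s r (rho P a) (rho P b) (dHom P c Dd q a b ha hb)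

theorem dMat_self (q : Z ⟶ X) (a : Z ⟶ Y) (ha : a ≫ c = q) :
    dMat P c Dd s r q a a ha ha = (LinearMap.toMatrix' (s ∘ₗ r)).map (rho P a) := by
  rw [dMat, dHom_self, mat_id]

theorem dMat_trans (hrs : ∀ x, r (s x) = x) (q : Z ⟶ X) (a b b' : Z ⟶ Y) (ha : a ≫ c = q) (hb : b ≫ c = q)
    (hb' : b' ≫ c = q) :
    dMat P c Dd s r q b b' hb hb' * dMat P c Dd s r q a b ha hb = dMat P c Dd s r q a b' ha hb' := by
  rw [dMat, dMat, dMat, mat_comp _ _ _ hrs, dHom_comp]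

theorem dMat_pull (q : Z ⟶ X) (q' : Z' ⟶ X) (g : Z' ⟶ Z) (hq : g ≫ q = q') (a b : Z ⟶ Y) (ha : a ≫ c = q)
    (hb : b ≫ c = q) (a' b' : Z' ⟶ Y) (ha' : g ≫ a = a') (hb' : g ≫ b = b') (ha'' : a' ≫ c = q')
    (hb'' : b' ≫ c = q') :
    dMat P c Dd s r q' a' b' ha'' hb'' = (dMat P c Dd s r q a b ha hb).map (rho P g) :=
  mat_push (dObj P c Dd) s r (rho P a) (rho P b) (rho P g) (rho P a') (rho P b') (rho_comp P b g b' hb')
    (dHom P c Dd q a b ha hb) (dHom P c Dd q' a' b' ha'' hb'') (cInv P b g b' hb' (dObj P c Dd))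
    (cInv_one P b g b' hb' (dObj P c Dd))
    (fun x => dHom_pull_one P c Dd q q' g hq a b ha hb a' b' ha' hb' ha'' hb'' x)

theorem sl_tmul {R₁ R₂ R₃ : Type u} [CommRing R₁] [CommRing R₂] [CommRing R₃] {f : R₁ →+* R₂} {g : R₂ →+* R₃}
    {M : ModuleCat.{u} R₁} {N : ModuleCat.{u} R₃}
    (φ ψ : (ModuleCat.extendScalars.{u, u, u} f).obj M →ₛₗ[g] N)
    (h : ∀ x : M, φ (one' f M x) = ψ (one' f M x)) (t : R₂) (x : M) :
    φ (t ⊗ₜ[R₁,f] x : (ModuleCat.extendScalars.{u, u, u} f).obj M) =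
      ψ (t ⊗ₜ[R₁,f] x : (ModuleCat.extendScalars.{u, u, u} f).obj M) := by
  rw [tmul_eq_smul, map_smulₛₗ, map_smulₛₗ, h]

theorem ext_one_one {R₁ R₂ R₃ : Type u} [CommRing R₁] [CommRing R₂] [CommRing R₃] {f : R₁ →+* R₂} {g : R₂ →+* R₃}
    {M : ModuleCat.{u} R₁} {N : ModuleCat.{u} R₃}
    {α β : (ModuleCat.extendScalars.{u, u, u} g).obj ((ModuleCat.extendScalars.{u, u, u} f).obj M) ⟶ N}
    (h : ∀ m : M, α (one' g _ (one' f M m)) = β (one' g _ (one' f M m))) : α = β := by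
  refine ext_one fun z => ?_
  let φ : (ModuleCat.extendScalars.{u, u, u} f).obj M →ₛₗ[g] N := (α.hom).comp (one' g _)
  let ψ : (ModuleCat.extendScalars.{u, u, u} f).obj M →ₛₗ[g] N := (β.hom).comp (one' g _)
  show φ z = ψ z
  induction z using TensorProduct.induction_on with
  | zero => exact (map_zero φ).trans (map_zero ψ).symm
  | add a b ha hb => exact (map_add φ a b).trans ((congrArg₂ (· + ·) ha hb).trans (map_add ψ a b).symm)
  | tmul t x => exact sl_tmul φ ψ h t x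

theorem key_convert (M : ModuleCat.{u} (P.obj (op X))) (N : ModuleCat.{u} (P.obj (op Y)))
    (ι : (ModuleCat.extendScalars.{u, u, u} (rho P c)).obj M ⟶ N) (q : Z ⟶ X) (f₁ f₂ : Z ⟶ Y)
    (hf₁ : f₁ ≫ c = q) (hf₂ : f₂ ≫ c = q)
    (h : (ModuleCat.extendScalars.{u, u, u} (rho P f₁)).obj N ⟶ (ModuleCat.extendScalars.{u, u, u} (rho P f₂)).obj N)
    (e : (ModuleCat.extendScalars.{u, u, u} (rho P f₁)).map ι ≫ h =
      (cInv P c f₁ q hf₁ M ≫ cHom P c f₂ q hf₂ M) ≫ (ModuleCat.extendScalars.{u, u, u} (rho P f₂)).map ι) :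
    ((G P).map f₁.op.toLoc).toFunctor.map ι ≫ h =
      (((G P).mapComp' c.op.toLoc f₁.op.toLoc q.op.toLoc (by rw [← hf₁]; rfl)).inv.toNatTrans.app M ≫
        ((G P).mapComp' c.op.toLoc f₂.op.toLoc q.op.toLoc (by rw [← hf₂]; rfl)).hom.toNatTrans.app M) ≫
        ((G P).map f₂.op.toLoc).toFunctor.map ι := by
  rw [map_eq P f₁, map_eq P f₂]
  exact e

theorem exists_iso_of_inv (hrs : ∀ x, r (s x) = x) {l : ℕ} (ε : Matrix (Fin l) (Fin l) (P.obj (op X)))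
    (hε : ε * ε = ε) (A : Matrix (Fin m) (Fin l) (P.obj (op Y))) (L : Matrix (Fin l) (Fin m) (P.obj (op Y)))
    (hA : A * ε.map (rho P c) = A) (hLA : L * A = ε.map (rho P c))
    (hAL : A * L = LinearMap.toMatrix' (s ∘ₗ r))
    (hinv : ∀ (Z : D) (q : Z ⟶ X) (a b : Z ⟶ Y) (ha : a ≫ c = q) (hb : b ≫ c = q),
      dMat P c Dd s r q a b ha hb * A.map (rho P a) = A.map (rho P b)) :
    Nonempty (((G P).toDescentData (fun _ : PUnit.{u + 1} => c)).obj (idemMod ε) ≅ Dd) := by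
  obtain ⟨ι, hι⟩ := exists_iso (dObj P c Dd) s r hrs (rho P c) ε hε A L hA hLA hAL
  refine genIso (G P) c Dd (idemMod ε) ι ?_
  intro Z q f₁ f₂ hf₁ hf₂
  have key : (ModuleCat.extendScalars.{u, u, u} (rho P f₁)).map ι.hom ≫ dHom P c Dd q f₁ f₂ hf₁ hf₂ =
      (cInv P c f₁ q hf₁ (idemMod ε) ≫ cHom P c f₂ q hf₂ (idemMod ε)) ≫
        (ModuleCat.extendScalars.{u, u, u} (rho P f₂)).map ι.hom := by
    refine ext_one_one fun v => ?_
    rw [ModuleCat.comp_apply, ModuleCat.comp_apply, ModuleCat.comp_apply, map_one', cInv_one, cHom_one,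
      map_one']
    refine toC_injective (dObj P c Dd) s r hrs (rho P f₂) ?_
    refine (apply_one (dObj P c Dd) s r hrs _ _ _ _).trans ?_
    refine Eq.trans ?_ (toC_one (dObj P c Dd) s (rho P f₂) _).symm
    rw [hι, map_comp_mulVec', map_comp_mulVec', Matrix.mulVec_mulVec, ← dMat, hinv Z q f₁ f₂ hf₁ hf₂]
    congr 1
    funext i
    simp only [Function.comp_apply, ← RingHom.comp_apply, ← rho_comp P c f₁ q hf₁, ← rho_comp P c f₂ q hf₂]
  exact key_convert P c (idemMod ε) (dObj P c Dd) ι.hom q f₁ f₂ hf₁ hf₂ _ key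

end Groth.Agent.H1WittDesc
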