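import Mathlib
import Groth.Agent.DescLib.Amitsur
import Groth.Agent.CAlgUI.DescentProj

/-!
# Matrix descent data relative to a faithfully flat ring map
-/

set_option autoImplicit false
set_option backward.isDefEq.respectTransparency false

universe u

open TensorProduct Matrix

namespace Groth.Agent.H1WittDesc

variable {R R' : Type u} [CommRing R] [CommRing R'] [Algebra R R']

/-- Descent data on the image of an idempotent matrix, in coordinates. -/
structure Lin (R R' : Type u) [CommRing R] [CommRing R'] [Algebra R R'] (m : ℕ) where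
  /-- The idempotent. -/
  e : Matrix (Fin m) (Fin m) R'
  /-- The transition matrices. -/
  H : ∀ (T : Type u) [CommRing T] [Algebra R T], (R' →ₐ[R] T) → (R' →ₐ[R] T) → Matrix (Fin m) (Fin m) T
  H_self : ∀ (T : Type u) [CommRing T] [Algebra R T] (a : R' →ₐ[R] T), H T a a = e.map a
  H_trans : ∀ (T : Type u) [CommRing T] [Algebra R T] (a b c : R' →ₐ[R] T), H T b c * H T a b = H T a c
  H_map : ∀ (T T' : Type u) [CommRing T] [Algebra R T] [CommRing T'] [Algebra R T'] (h : T →ₐ[R] T')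
    (a b : R' →ₐ[R] T), (H T a b).map h = H T' (h.comp a) (h.comp b)

theorem comp_mulVec {A B : Type u} [CommRing A] [CommRing B] [Algebra R A] [Algebra R B] {m : ℕ}
    (h : A →ₐ[R] B) (M : Matrix (Fin m) (Fin m) A) (v : Fin m → A) :
    h ∘ (M *ᵥ v) = (M.map h) *ᵥ (h ∘ v) :=
  funext fun i => RingHom.map_mulVec h.toRingHom M v i

theorem comp_smul {A B : Type u} [CommRing A] [CommRing B] [Algebra R A] [Algebra R B] {m : ℕ}
    (h : A →ₐ[R] B) (s : A) (v : Fin m → A) : h ∘ (s • v) = h s • (h ∘ v) :=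
  funext fun _ => map_mul h _ _

theorem comp_comp_vec {A B C : Type u} [CommRing A] [CommRing B] [CommRing C] [Algebra R A] [Algebra R B]
    [Algebra R C] {m : ℕ} (g : B →ₐ[R] C) (h : A →ₐ[R] B) (v : Fin m → A) :
    g ∘ (h ∘ v) = (g.comp h) ∘ v := rfl

theorem comp_add_vec {A B : Type u} [CommRing A] [CommRing B] [Algebra R A] [Algebra R B] {m : ℕ}
    (h : A →ₐ[R] B) (v w : Fin m → A) : h ∘ (v + w) = h ∘ v + h ∘ w :=
  funext fun _ => map_add h _ _

theorem comp_zero_vec {A B : Type u} [CommRing A] [CommRing B] [Algebra R A] [Algebra R B] {m : ℕ}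
    (h : A →ₐ[R] B) : h ∘ (0 : Fin m → A) = 0 := funext fun _ => map_zero h

namespace Lin

variable {m : ℕ} (D : Lin R R' m)

/-- The first inclusion. -/
abbrev inl : R' →ₐ[R] R' ⊗[R] R' := Algebra.TensorProduct.includeLeft

/-- The second inclusion. -/
abbrev inr : R' →ₐ[R] R' ⊗[R] R' := Algebra.TensorProduct.includeRight

theorem e_idem : D.e * D.e = D.e := by
  have h := D.H_trans R' (AlgHom.id R R') (AlgHom.id R R') (AlgHom.id R R')
  rw [D.H_self] at h
  simpa using h

theorem H_mul_e {T : Type u} [CommRing T] [Algebra R T] (a b : R' →ₐ[R] T) :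
    D.H T a b * D.e.map a = D.H T a b := by rw [← D.H_self, D.H_trans]

theorem e_mul_H {T : Type u} [CommRing T] [Algebra R T] (a b : R' →ₐ[R] T) :
    D.e.map b * D.H T a b = D.H T a b := by rw [← D.H_self, D.H_trans]

theorem H_id : D.H R' (AlgHom.id R R') (AlgHom.id R R') = D.e := by
  rw [D.H_self]; exact Matrix.ext fun _ _ => rfl

/-- The differential. -/
noncomputable def d : (Fin m → R') →ₗ[R] (Fin m → R' ⊗[R] R') :=
  ((D.H (R' ⊗[R] R') inl inr).mulVecLin.restrictScalars R) ∘ₗ (inl (R := R) (R' := R')).toLinearMap.compLeft (Fin m) -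
    (inr (R := R) (R' := R')).toLinearMap.compLeft (Fin m)

theorem d_apply (v : Fin m → R') : D.d v = D.H (R' ⊗[R] R') inl inr *ᵥ (inl ∘ v) - inr ∘ v := rfl

/-- The inclusion of the first factor in the triple tensor product. -/
abbrev j₀ : R' →ₐ[R] R' ⊗[R] (R' ⊗[R] R') := Algebra.TensorProduct.includeLeft

/-- The inclusion of the last two factors in the triple tensor product. -/
abbrev ι₁₂ : R' ⊗[R] R' →ₐ[R] R' ⊗[R] (R' ⊗[R] R') := Algebra.TensorProduct.includeRight

/-- The inclusion of the first two factors in the triple tensor product. -/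
noncomputable abbrev φ₀₁ : R' ⊗[R] R' →ₐ[R] R' ⊗[R] (R' ⊗[R] R') :=
  Algebra.TensorProduct.map (AlgHom.id R R') inl

/-- The inclusion of the outer factors in the triple tensor product. -/
noncomputable abbrev φ₀₂ : R' ⊗[R] R' →ₐ[R] R' ⊗[R] (R' ⊗[R] R') :=
  Algebra.TensorProduct.map (AlgHom.id R R') inr

theorem φ₀₁_inl : (φ₀₁ (R := R) (R' := R')).comp inl = j₀ := by ext x; simp [φ₀₁, inl, j₀]

theorem φ₀₁_inr : (φ₀₁ (R := R) (R' := R')).comp inr = (ι₁₂ (R := R) (R' := R')).comp inl := by ext x; simp [φ₀₁, inr, ι₁₂]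

theorem φ₀₂_inl : (φ₀₂ (R := R) (R' := R')).comp inl = j₀ := by ext x; simp [φ₀₂, inl, j₀]

theorem φ₀₂_inr : (φ₀₂ (R := R) (R' := R')).comp inr = (ι₁₂ (R := R) (R' := R')).comp inr := by ext x; simp [φ₀₂, inr, ι₁₂]

/-- The differential after base change. -/
noncomputable def L (u : Fin m → R' ⊗[R] R') : Fin m → R' ⊗[R] (R' ⊗[R] R') :=
  D.H _ (ι₁₂.comp inl) (ι₁₂.comp inr) *ᵥ (φ₀₁ ∘ u) - φ₀₂ ∘ u

theorem piRight_tmul (s : R') (v : Fin m → R') :
    TensorProduct.piRight R R R' (fun _ : Fin m => R') (s ⊗ₜ[R] v) =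
      inl (R := R) (R' := R') s • (inr (R := R) (R' := R') ∘ v) := by
  funext i
  rw [TensorProduct.piRight_apply, TensorProduct.piRightHom_tmul]
  show _ = inl s * inr (v i)
  simp [inl, inr]

theorem piRight_tmul₃ (s : R') (v : Fin m → R' ⊗[R] R') :
    TensorProduct.piRight R R R' (fun _ : Fin m => R' ⊗[R] R') (s ⊗ₜ[R] v) =
      j₀ (R := R) (R' := R') s • (ι₁₂ (R := R) (R' := R') ∘ v) := by
  funext i
  rw [TensorProduct.piRight_apply, TensorProduct.piRightHom_tmul]
  show _ = j₀ s * ι₁₂ (v i)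
  simp [j₀, ι₁₂]

theorem piRight_lTensor_d (z : R' ⊗[R] (Fin m → R')) :
    TensorProduct.piRight R R R' (fun _ : Fin m => R' ⊗[R] R') (D.d.lTensor R' z) =
      D.L (TensorProduct.piRight R R R' (fun _ : Fin m => R') z) := by
  induction z using TensorProduct.induction_on with
  | zero => simp [L, comp_zero_vec]
  | add x y hx hy =>
    simp only [map_add, hx, hy, L, comp_add_vec, Matrix.mulVec_add]
    abel
  | tmul s v =>
    rw [LinearMap.lTensor_tmul, piRight_tmul₃, piRight_tmul, L, comp_smul, comp_smul,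
      Matrix.mulVec_smul]
    simp only [comp_comp_vec, φ₀₁_inr, φ₀₂_inr]
    rw [← AlgHom.comp_apply (φ₀₁ (R := R) (R' := R')), ← AlgHom.comp_apply (φ₀₂ (R := R) (R' := R')), φ₀₁_inl, φ₀₂_inl,
      D.d_apply]
    funext i
    have := congrFun (comp_mulVec ι₁₂ (D.H _ inl inr) (inl ∘ v)) i
    rw [D.H_map, comp_comp_vec] at this
    simp only [Function.comp_apply] at this
    simp only [Function.comp_apply, Pi.sub_apply, Pi.smul_apply, smul_eq_mul, map_sub, this,
      AlgHom.comp_apply, mul_sub]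

theorem exists_eq_of_cocycle [Module.FaithfullyFlat R R']
    (c : ∀ (T : Type u) [CommRing T] [Algebra R T], (R' →ₐ[R] T) → (R' →ₐ[R] T) → Fin m → T)
    (hmap : ∀ (T T' : Type u) [CommRing T] [Algebra R T] [CommRing T'] [Algebra R T'] (h : T →ₐ[R] T')
      (a b : R' →ₐ[R] T), h ∘ c T a b = c T' (h.comp a) (h.comp b))
    (hc : ∀ (T : Type u) [CommRing T] [Algebra R T] (a b c' : R' →ₐ[R] T),
      c T a c' = D.H T b c' *ᵥ c T a b + c T b c')
    (he : D.e.map inr *ᵥ c (R' ⊗[R] R') inl inr = c (R' ⊗[R] R') inl inr) :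
    ∃ y : Fin m → R', D.e *ᵥ y = y ∧
      D.H (R' ⊗[R] R') inl inr *ᵥ (inl ∘ y) - inr ∘ y = - c (R' ⊗[R] R') inl inr := by
  have key : - c (R' ⊗[R] R') inl inr ∈ LinearMap.range D.d := by
    refine DescLib.mem_range_of_one_tmul_mem (A := R') D.d _
      ⟨(TensorProduct.piRight R R R' (fun _ : Fin m => R')).symm (c _ inl inr), ?_⟩
    apply (TensorProduct.piRight R R R' (fun _ : Fin m => R' ⊗[R] R')).injective
    rw [piRight_lTensor_d, LinearEquiv.apply_symm_apply, piRight_tmul₃, map_one, one_smul, L,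
      hmap, hmap, φ₀₁_inl, φ₀₁_inr, φ₀₂_inl, φ₀₂_inr, hc _ j₀ (ι₁₂.comp inl) (ι₁₂.comp inr),
      ← hmap _ _ ι₁₂ inl inr]
    funext i
    simp only [Pi.sub_apply, Pi.add_apply, Function.comp_apply, Pi.neg_apply, map_neg]
    ring
  obtain ⟨v, hv⟩ := key
  refine ⟨D.e *ᵥ v, by rw [Matrix.mulVec_mulVec, D.e_idem], ?_⟩
  have h2 : D.e.map inr *ᵥ D.d v = - c (R' ⊗[R] R') inl inr := by
    rw [hv, Matrix.mulVec_neg, he]
  rw [d_apply, Matrix.mulVec_sub, Matrix.mulVec_mulVec, D.e_mul_H, ← comp_mulVec] at h2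
  rw [comp_mulVec, Matrix.mulVec_mulVec, D.H_mul_e]
  exact h2

/-- The descended module. -/
noncomputable def N : Submodule R (Fin m → R') := LinearMap.ker D.d

theorem mem_N {v : Fin m → R'} :
    v ∈ D.N ↔ D.H (R' ⊗[R] R') inl inr *ᵥ (inl ∘ v) = inr ∘ v := by
  rw [N, LinearMap.mem_ker, d_apply, sub_eq_zero]

/-- The multiplication map. -/
noncomputable abbrev μ : R' ⊗[R] R' →ₐ[R] R' := Algebra.TensorProduct.lmul' R

theorem μ_inl : (μ (R := R) (R' := R')).comp inl = AlgHom.id R R' := by ext x; simp [μ, inl]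

theorem μ_inr : (μ (R := R) (R' := R')).comp inr = AlgHom.id R R' := by ext x; simp [μ, inr]

theorem e_mulVec_of_mem {v : Fin m → R'} (hv : v ∈ D.N) : D.e *ᵥ v = v := by
  have h := congrArg (fun w => μ ∘ w) (D.mem_N.1 hv)
  simp only [comp_mulVec, D.H_map, comp_comp_vec, μ_inl, μ_inr, D.H_id] at h
  exact h

/-- The comparison map. -/
noncomputable def cmp : R' ⊗[R] D.N →ₗ[R'] (Fin m → R') := LinearMap.liftBaseChange R' D.N.subtype

theorem cmp_eq (z : R' ⊗[R] D.N) :
    D.cmp z = μ ∘ (TensorProduct.piRight R R R' (fun _ : Fin m => R') (D.N.subtype.lTensor R' z)) := by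
  induction z using TensorProduct.induction_on with
  | zero => simp [comp_zero_vec]
  | add x y hx hy => simp only [map_add, hx, hy, comp_add_vec]
  | tmul s v =>
    rw [LinearMap.lTensor_tmul, piRight_tmul, comp_smul, comp_comp_vec, μ_inr, ← AlgHom.comp_apply,
      μ_inl, cmp, LinearMap.liftBaseChange_tmul]
    rfl

theorem eq_of_L_eq_zero {u : Fin m → R' ⊗[R] R'} (hu : D.L u = 0) :
    D.H _ inl inr *ᵥ (inl ∘ (μ ∘ u)) = u := by
  let h : R' ⊗[R] (R' ⊗[R] R') →ₐ[R] R' ⊗[R] R' :=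
    Algebra.TensorProduct.lift inl (AlgHom.id R _) fun a b => mul_comm _ _
  have h₀ : h.comp j₀ = inl := by ext x; simp [h, j₀]
  have h₁ : h.comp ι₁₂ = AlgHom.id R _ := AlgHom.ext fun x => by simp [h, ι₁₂]
  have h01 : h.comp φ₀₁ = inl.comp μ :=
    Algebra.TensorProduct.ext (by ext x; simp [h, φ₀₁, inl, μ]) (by ext x; simp [h, φ₀₁, inl, μ])
  have h02 : h.comp φ₀₂ = AlgHom.id R _ :=
    Algebra.TensorProduct.ext (by ext x; simp [h, φ₀₂, inl]) (by ext x; simp [h, φ₀₂, inr])
  have := congrArg (fun w => h ∘ w) (sub_eq_zero.1 hu)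
  simp only [comp_mulVec, D.H_map, comp_comp_vec, ← AlgHom.comp_assoc, h₁, AlgHom.id_comp, h01,
    h02] at this
  exact this

theorem cmp_injective [Module.FaithfullyFlat R R'] : Function.Injective D.cmp := by
  rw [injective_iff_map_eq_zero]
  intro z hz
  set u := TensorProduct.piRight R R R' (fun _ : Fin m => R') (D.N.subtype.lTensor R' z) with hu
  have hL : D.L u = 0 := by
    rw [hu, ← piRight_lTensor_d, ← LinearMap.comp_apply, ← LinearMap.lTensor_comp,
      show D.d ∘ₗ D.N.subtype = 0 from LinearMap.comp_ker_subtype D.d]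
    simp
  have h2 := D.eq_of_L_eq_zero hL
  rw [← D.cmp_eq z, hz, comp_zero_vec, Matrix.mulVec_zero] at h2
  exact (Module.Flat.lTensor_preserves_injective_linearMap _ D.N.injective_subtype)
    (((TensorProduct.piRight R R R' (fun _ : Fin m => R')).map_eq_zero_iff.1 h2.symm).trans (map_zero _).symm)

theorem range_cmp [Module.FaithfullyFlat R R'] : LinearMap.range D.cmp = LinearMap.range D.e.mulVecLin := by
  refine le_antisymm ?_ ?_
  · rintro _ ⟨z, rfl⟩
    refine ⟨D.cmp z, ?_⟩
    show D.e *ᵥ D.cmp z = D.cmp z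
    induction z using TensorProduct.induction_on with
    | zero => simp
    | add x y hx hy => rw [map_add, Matrix.mulVec_add, hx, hy]
    | tmul s v =>
      rw [cmp, LinearMap.liftBaseChange_tmul, Matrix.mulVec_smul]
      exact congrArg _ (D.e_mulVec_of_mem v.2)
  · rintro _ ⟨x, rfl⟩
    set z : Fin m → R' := D.e.mulVecLin x with hzd
    have hz : D.e *ᵥ z = z := by
      rw [hzd, Matrix.mulVecLin_apply, Matrix.mulVec_mulVec, D.e_idem]
    set u : Fin m → R' ⊗[R] R' := D.H _ inl inr *ᵥ (inl ∘ z) with hu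
    have hL : D.L u = 0 := by
      rw [L, sub_eq_zero, hu]
      simp only [comp_mulVec, D.H_map, comp_comp_vec, φ₀₁_inl, φ₀₁_inr, φ₀₂_inl, φ₀₂_inr,
        Matrix.mulVec_mulVec, D.H_trans]
    have hex : Function.Exact (D.N.subtype.lTensor R') (D.d.lTensor R') :=
      Module.Flat.lTensor_exact R' (LinearMap.exact_subtype_ker_map D.d)
    obtain ⟨w, hw⟩ := (hex ((TensorProduct.piRight R R R' (fun _ : Fin m => R')).symm u)).1
      ((TensorProduct.piRight R R R' (fun _ : Fin m => R' ⊗[R] R')).injective (by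
        rw [piRight_lTensor_d, LinearEquiv.apply_symm_apply, hL, map_zero]))
    refine ⟨w, ?_⟩
    rw [cmp_eq, hw, LinearEquiv.apply_symm_apply, hu, comp_mulVec, D.H_map, comp_comp_vec, μ_inl, μ_inr,
      D.H_id]
    exact hz

theorem finite_projective [Module.FaithfullyFlat R R'] :
    Module.Finite R D.N ∧ Module.Projective R D.N := by
  let e := (LinearEquiv.ofInjective D.cmp D.cmp_injective).trans (LinearEquiv.ofEq _ _ D.range_cmp)
  have hf : Module.Finite R' (R' ⊗[R] D.N) := Module.Finite.equiv e.symm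
  have hp : Module.Projective R' (LinearMap.range D.e.mulVecLin) := by
    refine Module.Projective.of_split (LinearMap.range D.e.mulVecLin).subtype D.e.mulVecLin.rangeRestrict ?_
    ext ⟨_, x, rfl⟩ i
    show (D.e *ᵥ (D.e *ᵥ x)) i = (D.e *ᵥ x) i
    rw [Matrix.mulVec_mulVec, D.e_idem]
  have hp' : Module.Projective R' (R' ⊗[R] D.N) := Module.Projective.of_equiv e.symm
  exact ⟨Module.Finite.of_finite_tensorProduct_of_faithfullyFlat R',
    CAlgUI.projective_descent (S := R')⟩

end Lin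

end Groth.Agent.H1WittDesc
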