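import Groth.Agent.H1WittDesc.Layer
import Groth.Agent.H1WittDesc.Lin

/-!
# Witt descent data in coordinates, and lifting of invariant vectors
-/

set_option autoImplicit false
set_option backward.isDefEq.respectTransparency false

universe u

open TensorProduct Matrix

namespace Groth.Agent.H1WittDesc

variable {p : ℕ} [Fact p.Prime] {n : ℕ} {R R' : Type u} [CommRing R] [CommRing R'] [Algebra R R']

variable (p n) in
/-- The map on truncated Witt vectors of an algebra map. -/
noncomputable abbrev wm {A B : Type u} [CommRing A] [CommRing B] [Algebra R A] [Algebra R B] (h : A →ₐ[R] B) :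
    TruncatedWittVector p n A →+* TruncatedWittVector p n B := WittGrp.truncMap p n h.toRingHom

theorem wm_comp {A B C : Type u} [CommRing A] [CommRing B] [CommRing C] [Algebra R A] [Algebra R B]
    [Algebra R C] (g : B →ₐ[R] C) (h : A →ₐ[R] B) :
    wm p n (g.comp h) = (wm p n g).comp (wm p n h) :=
  WittGrp.truncMap_comp p n h.toRingHom g.toRingHom

theorem wm_id {A : Type u} [CommRing A] [Algebra R A] : wm p n (AlgHom.id R A) = RingHom.id _ :=
  WittGrp.truncMap_id p n

theorem wm_comp_vec {A B C : Type u} [CommRing A] [CommRing B] [CommRing C] [Algebra R A] [Algebra R B]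
    [Algebra R C] {m : ℕ} (g : B →ₐ[R] C) (h : A →ₐ[R] B) (v : Fin m → TruncatedWittVector p n A) :
    wm p n g ∘ (wm p n h ∘ v) = wm p n (g.comp h) ∘ v := by
  rw [wm_comp]; rfl

theorem map_comp_mulVec {A B : Type*} [CommRing A] [CommRing B] {m l : ℕ} (f : A →+* B)
    (M : Matrix (Fin m) (Fin l) A) (v : Fin l → A) : f ∘ (M *ᵥ v) = (M.map f) *ᵥ (f ∘ v) :=
  funext fun i => RingHom.map_mulVec f M v i

/-- Descent data on the image of an idempotent matrix of truncated Witt vectors, in coordinates. -/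
structure Dat (p : ℕ) [Fact p.Prime] (n : ℕ) (R R' : Type u) [CommRing R] [CommRing R'] [Algebra R R']
    (m : ℕ) where
  /-- The idempotent. -/
  e : Matrix (Fin m) (Fin m) (TruncatedWittVector p n R')
  /-- The transition matrices. -/
  G : ∀ (T : Type u) [CommRing T] [Algebra R T], (R' →ₐ[R] T) → (R' →ₐ[R] T) →
    Matrix (Fin m) (Fin m) (TruncatedWittVector p n T)
  G_self : ∀ (T : Type u) [CommRing T] [Algebra R T] (a : R' →ₐ[R] T), G T a a = e.map (wm p n a)
  G_trans : ∀ (T : Type u) [CommRing T] [Algebra R T] (a b c : R' →ₐ[R] T), G T b c * G T a b = G T a c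
  G_map : ∀ (T T' : Type u) [CommRing T] [Algebra R T] [CommRing T'] [Algebra R T'] (h : T →ₐ[R] T')
    (a b : R' →ₐ[R] T), (G T a b).map (wm p n h) = G T' (h.comp a) (h.comp b)

namespace Dat

open Lin

variable {m : ℕ} (D : Dat p n R R' m)

theorem e_idem : D.e * D.e = D.e := by
  have h := D.G_trans R' (AlgHom.id R R') (AlgHom.id R R') (AlgHom.id R R')
  rw [D.G_self, wm_id] at h
  simpa using h

theorem e_mul_G {T : Type u} [CommRing T] [Algebra R T] (a b : R' →ₐ[R] T) :
    D.e.map (wm p n b) * D.G T a b = D.G T a b := by rw [← D.G_self, D.G_trans]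

theorem G_mul_e {T : Type u} [CommRing T] [Algebra R T] (a b : R' →ₐ[R] T) :
    D.G T a b * D.e.map (wm p n a) = D.G T a b := by rw [← D.G_self, D.G_trans]

/-- The datum on the `k`-th layer. -/
noncomputable def red (k : Fin n) : Lin R R' m where
  e := D.e.map (gh k)
  H T _ _ a b := (D.G T a b).map (gh k)
  H_self T _ _ a := by
    rw [D.G_self, Matrix.map_map, Matrix.map_map]
    exact congrArg D.e.map (funext fun x => gh_map a.toRingHom k x)
  H_trans T _ _ a b c := by rw [← Matrix.map_mul, D.G_trans]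
  H_map T T' _ _ _ _ h a b := by
    rw [← D.G_map T T' h a b, Matrix.map_map, Matrix.map_map]
    exact congrArg (D.G T a b).map (funext fun x => (gh_map h.toRingHom k x).symm)

/-- The defect of invariance. -/
noncomputable def δ (T : Type u) [CommRing T] [Algebra R T] (a b : R' →ₐ[R] T)
    (x : Fin m → TruncatedWittVector p n R') : Fin m → TruncatedWittVector p n T :=
  D.G T a b *ᵥ (wm p n a ∘ x) - wm p n b ∘ x

theorem δ_map {T T' : Type u} [CommRing T] [Algebra R T] [CommRing T'] [Algebra R T'] (h : T →ₐ[R] T')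
    (a b : R' →ₐ[R] T) (x : Fin m → TruncatedWittVector p n R') :
    wm p n h ∘ D.δ T a b x = D.δ T' (h.comp a) (h.comp b) x := by
  rw [δ, δ, ← D.G_map T T' h a b, ← wm_comp_vec h a x, ← wm_comp_vec h b x, ← map_comp_mulVec]
  funext i
  exact map_sub (wm p n h) _ _

theorem δ_trans {T : Type u} [CommRing T] [Algebra R T] (a b c : R' →ₐ[R] T)
    (x : Fin m → TruncatedWittVector p n R') :
    D.δ T a c x = D.G T b c *ᵥ D.δ T a b x + D.δ T b c x := by
  simp only [δ, Matrix.mulVec_sub, Matrix.mulVec_mulVec, D.G_trans]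
  abel

theorem δ_add {T : Type u} [CommRing T] [Algebra R T] (a b : R' →ₐ[R] T)
    (x y : Fin m → TruncatedWittVector p n R') : D.δ T a b (x + y) = D.δ T a b x + D.δ T a b y := by
  have e : ∀ (g : R' →ₐ[R] T), wm p n g ∘ (x + y) = wm p n g ∘ x + wm p n g ∘ y :=
    fun g => funext fun _ => map_add (wm p n g) _ _
  simp only [δ, e, Matrix.mulVec_add]
  abel

theorem δ_univ_mem {k : ℕ} {x : Fin m → TruncatedWittVector p n R'}
    (hx : ∀ i, D.δ (R' ⊗[R] R') inl inr x i ∈ fil k) {T : Type u} [CommRing T] [Algebra R T]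
    (a b : R' →ₐ[R] T) (i : Fin m) : D.δ T a b x i ∈ fil k := by
  have h := congrFun (D.δ_map (Algebra.TensorProduct.productMap a b) inl inr x) i
  have ha : (Algebra.TensorProduct.productMap a b).comp inl = a := AlgHom.ext fun r => by simp [inl]
  have hb : (Algebra.TensorProduct.productMap a b).comp inr = b := AlgHom.ext fun r => by simp [inr]
  rw [ha, hb] at h
  rw [← h]
  exact truncMap_mem_fil _ (hx i)

theorem mulVec_mem_fil {T : Type u} [CommRing T] {l : ℕ} (A : Matrix (Fin m) (Fin l) (TruncatedWittVector p n T))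
    {k : ℕ} {v : Fin l → TruncatedWittVector p n T} (hv : ∀ i, v i ∈ fil k) (i : Fin m) :
    (A *ᵥ v) i ∈ fil k :=
  show (∑ j, A i j * v j) ∈ fil k from Ideal.sum_mem _ fun j _ => Ideal.mul_mem_left _ _ (hv j)

theorem coeff_mulVec {T : Type u} [CommRing T] {l : ℕ} (A : Matrix (Fin m) (Fin l) (TruncatedWittVector p n T))
    (k : Fin n) {v : Fin l → TruncatedWittVector p n T} (hv : ∀ i, v i ∈ fil (k : ℕ)) (i : Fin m) :
    ((A *ᵥ v) i).coeff k = (A.map (gh k) *ᵥ fun j => (v j).coeff k) i := by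
  show (∑ j, A i j * v j).coeff k = ∑ j, gh k (A i j) * (v j).coeff k
  rw [coeff_sum_fil k _ _ fun j _ => Ideal.mul_mem_left _ _ (hv j)]
  exact Finset.sum_congr rfl fun j _ => coeff_mul_fil k _ (hv j)

theorem e_δ {T : Type u} [CommRing T] [Algebra R T] (a b : R' →ₐ[R] T)
    {x : Fin m → TruncatedWittVector p n R'} (hx : D.e *ᵥ x = x) :
    D.e.map (wm p n b) *ᵥ D.δ T a b x = D.δ T a b x := by
  rw [δ, Matrix.mulVec_sub, Matrix.mulVec_mulVec, D.e_mul_G, ← map_comp_mulVec, hx]

theorem step [Module.FaithfullyFlat R R'] (k : Fin n) (x : Fin m → TruncatedWittVector p n R')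
    (hx : D.e *ᵥ x = x) (hδ : ∀ i, D.δ (R' ⊗[R] R') inl inr x i ∈ fil (k : ℕ)) :
    ∃ u : Fin m → TruncatedWittVector p n R', (∀ i, u i ∈ fil (k : ℕ)) ∧ D.e *ᵥ (x + u) = x + u ∧
      ∀ i, D.δ (R' ⊗[R] R') inl inr (x + u) i ∈ fil ((k : ℕ) + 1) := by
  have hcm := fun (T : Type u) [CommRing T] [Algebra R T] (a b : R' →ₐ[R] T) => D.δ_univ_mem hδ a b
  obtain ⟨y, hy, hd⟩ := (D.red k).exists_eq_of_cocycle
    (fun T _ _ a b i => (D.δ T a b x i).coeff k)
    (fun T T' _ _ _ _ h a b => funext fun i => by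
      rw [Function.comp_apply, ← D.δ_map h a b x]
      exact (WittGrp.coeff_truncMap p n h.toRingHom _ k).symm)
    (fun T _ _ a b c => funext fun i => by
      show (D.δ T a c x i).coeff k = _
      rw [congrFun (D.δ_trans a b c x) i, Pi.add_apply,
        coeff_add_fil k (mulVec_mem_fil _ (hcm T a b) i) (hcm T b c i), coeff_mulVec _ k (hcm T a b) i]
      rfl)
    (funext fun i => by
      show ((D.e.map (gh k)).map (inr (R := R) (R' := R')) *ᵥ _) i = (D.δ (R' ⊗[R] R') inl inr x i).coeff k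
      have h1 : (D.e.map (gh k)).map (inr (R := R) (R' := R')) = (D.e.map (wm p n (inr (R := R) (R' := R')))).map (gh k) := by
        rw [Matrix.map_map, Matrix.map_map]
        exact congrArg D.e.map (funext fun z => (gh_map (inr : R' →ₐ[R] R' ⊗[R] R').toRingHom k z).symm)
      rw [h1, ← coeff_mulVec _ k hδ i, D.e_δ inl inr hx])
  let u : Fin m → TruncatedWittVector p n R' := D.e *ᵥ fun i => single k (y i)
  have hu : ∀ i, u i ∈ fil (k : ℕ) := mulVec_mem_fil _ fun i => single_mem_fil k (y i)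
  have hcu : (fun i => (u i).coeff k) = y := funext fun i => by
    rw [coeff_mulVec _ k (fun i => single_mem_fil k (y i)) i]
    simp only [coeff_single]
    exact congrFun hy i
  refine ⟨u, hu, by rw [Matrix.mulVec_add, hx, Matrix.mulVec_mulVec, D.e_idem], fun i => ?_⟩
  have hwu : ∀ (g : R' →ₐ[R] R' ⊗[R] R') (j : Fin m), (wm p n g ∘ u) j ∈ fil (k : ℕ) :=
    fun g j => truncMap_mem_fil _ (hu j)
  have hcg : ∀ (g : R' →ₐ[R] R' ⊗[R] R'), (fun j => ((wm p n g ∘ u) j).coeff k) = g ∘ y := fun g =>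
    funext fun j => (WittGrp.coeff_truncMap p n g.toRingHom (u j) k).trans (congrArg g (congrFun hcu j))
  have hδu : D.δ (R' ⊗[R] R') inl inr u i ∈ fil (k : ℕ) :=
    sub_mem (mulVec_mem_fil _ (hwu inl) i) (hwu inr i)
  rw [D.δ_add, Pi.add_apply]
  refine mem_fil_succ k (add_mem (hδ i) hδu) ?_
  rw [coeff_add_fil k (hδ i) hδu]
  have : (D.δ (R' ⊗[R] R') inl inr u i).coeff k = - (D.δ (R' ⊗[R] R') inl inr x i).coeff k := by
    rw [δ, Pi.sub_apply, coeff_sub_fil k (mulVec_mem_fil _ (hwu inl) i) (hwu inr i),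
      coeff_mulVec _ k (hwu inl) i, hcg]
    have := congrFun hd i
    simp only [Pi.sub_apply, Pi.neg_apply] at this
    rw [congrFun (hcg inr) i]
    exact this
  rw [this, add_neg_cancel]

/-- Invariant vectors. -/
def Inv (x : Fin m → TruncatedWittVector p n R') : Prop :=
  ∀ (T : Type u) [CommRing T] [Algebra R T] (a b : R' →ₐ[R] T),
    D.G T a b *ᵥ (wm p n a ∘ x) = wm p n b ∘ x

theorem exists_inv_lift [Module.FaithfullyFlat R R'] (h0 : 0 < n) {y : Fin m → R'}
    (hy : y ∈ (D.red ⟨0, h0⟩).N) :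
    ∃ x : Fin m → TruncatedWittVector p n R', D.Inv x ∧ D.e *ᵥ x = x ∧ gh ⟨0, h0⟩ ∘ x = y := by
  have main : ∀ j : ℕ, j + 1 ≤ n → ∃ x : Fin m → TruncatedWittVector p n R', D.e *ᵥ x = x ∧
      gh ⟨0, h0⟩ ∘ x = y ∧ ∀ i, D.δ (R' ⊗[R] R') inl inr x i ∈ fil (j + 1) := by
    intro j
    induction j with
    | zero =>
      intro _
      let s : Fin m → TruncatedWittVector p n R' := fun i => single ⟨0, h0⟩ (y i)
      have hx0 : gh ⟨0, h0⟩ ∘ (D.e *ᵥ s) = y := by
        rw [map_comp_mulVec]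
        refine Eq.trans ?_ ((D.red ⟨0, h0⟩).e_mulVec_of_mem hy)
        congr 1
        funext i
        rw [Function.comp_apply, gh_zero, coeff_single]
      refine ⟨D.e *ᵥ s, by rw [Matrix.mulVec_mulVec, D.e_idem], hx0, fun i => ?_⟩
      refine mem_fil_succ ⟨0, h0⟩ (mem_fil_zero _) ?_
      rw [← gh_zero h0, δ, Pi.sub_apply, map_sub, sub_eq_zero]
      have hg : ∀ (g : R' →ₐ[R] R' ⊗[R] R'), gh ⟨0, h0⟩ ∘ (wm p n g ∘ (D.e *ᵥ s)) = g ∘ y := fun g =>
        funext fun j => (gh_map g.toRingHom _ _).trans (congrArg g (congrFun hx0 j))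
      refine (congrFun (map_comp_mulVec (gh ⟨0, h0⟩) (D.G (R' ⊗[R] R') inl inr) _) i).trans ?_
      rw [hg]
      exact (congrFun ((D.red ⟨0, h0⟩).mem_N.1 hy) i).trans (congrFun (hg inr) i).symm
    | succ j ih =>
      intro hj
      obtain ⟨x, hx, hxy, hδ⟩ := ih (Nat.le_of_succ_le hj)
      obtain ⟨u, hu, hxu, hδu⟩ := D.step ⟨j + 1, hj⟩ x hx hδ
      refine ⟨x + u, hxu, ?_, hδu⟩
      rw [← hxy]
      funext i
      simp only [Function.comp_apply, Pi.add_apply, map_add]
      rw [gh_zero h0 (u i), mem_fil.1 (hu i) ⟨0, h0⟩ (Nat.succ_pos j), add_zero]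
  obtain ⟨x, hx, hxy, hδ⟩ := main (n - 1) (by omega)
  refine ⟨x, fun T _ _ a b => funext fun i => ?_, hx, hxy⟩
  have := D.δ_univ_mem hδ a b i
  rw [Nat.sub_add_cancel h0] at this
  exact sub_eq_zero.1 (eq_zero_of_mem_fil this)

end Dat

end Groth.Agent.H1WittDesc
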