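import Groth.Agent.H1WittDesc.Datum

/-!
# The descended idempotent
-/

set_option autoImplicit false
set_option backward.isDefEq.respectTransparency false

universe u

open TensorProduct Matrix

namespace Groth.Agent.H1WittDesc

theorem matrix_pow_mem {A : Type*} [CommRing A] {m : Type*} [Fintype m] [DecidableEq m] {J : Ideal A}
    (M : Matrix m m A) (hM : ∀ i j, M i j ∈ J) (k : ℕ) : ∀ i j, (M ^ k) i j ∈ J ^ k := by
  induction k with
  | zero => intro i j; rw [pow_zero, pow_zero, Ideal.one_eq_top]; trivial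
  | succ k ih =>
    intro i j
    rw [pow_succ, pow_succ, Matrix.mul_apply]
    exact Ideal.sum_mem _ fun l _ => Ideal.mul_mem_mul (ih i l) (hM l j)

theorem isNilpotent_matrix {A : Type*} [CommRing A] {m : Type*} [Fintype m] [DecidableEq m]
    (M : Matrix m m A) (hM : ∀ i j, IsNilpotent (M i j)) : IsNilpotent M := by
  classical
  let J : Ideal A := Ideal.span (Set.range fun q : m × m => M q.1 q.2)
  have hfg : J.FG := Submodule.fg_span (Set.finite_range _)
  have hnil : J ≤ nilradical A := Ideal.span_le.2 (by rintro _ ⟨q, rfl⟩; exact hM _ _)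
  obtain ⟨k, hk⟩ := (Ideal.FG.isNilpotent_iff_le_nilradical hfg).2 hnil
  refine ⟨k, Matrix.ext fun i j => ?_⟩
  have := matrix_pow_mem (J := J) M (fun a b => Ideal.subset_span ⟨(a, b), rfl⟩) k i j
  rw [hk] at this
  simpa using this

theorem map_isNilpotent_ker {A B : Type*} [CommRing A] [CommRing B] {m : Type*} [Fintype m] [DecidableEq m]
    (f : A →+* B) (hf : ∀ x, f x = 0 → IsNilpotent x) (M : Matrix m m A) (hM : M.map f = 0) :
    IsNilpotent M :=
  isNilpotent_matrix M fun i j => hf _ (by simpa using congrFun (congrFun hM i) j)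

/-- Two idempotents joined by maps which are mutually inverse modulo nilpotents are equivalent. -/
theorem exists_inverse_of_nilpotent {A B : Type*} [CommRing A] [CommRing B] (f : A →+* B)
    (hf : ∀ x, f x = 0 → IsNilpotent x) {m r : ℕ} (e : Matrix (Fin m) (Fin m) A)
    (η : Matrix (Fin r) (Fin r) A) (he : e * e = e) (hη : η * η = η)
    (X : Matrix (Fin m) (Fin r) A) (hX : e * X = X) (hX' : X * η = X)
    (Y : Matrix (Fin r) (Fin m) A) (hY : η * Y = Y) (hY' : Y * e = Y)
    (h1 : (X * Y).map f = e.map f) (h2 : (Y * X).map f = η.map f) :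
    ∃ L : Matrix (Fin r) (Fin m) A, L * X = η ∧ X * L = e := by
  have n1 : IsNilpotent (e - X * Y) := map_isNilpotent_ker f hf _ (by rw [Matrix.map_sub _ f.map_sub, h1, sub_self])
  have n2 : IsNilpotent (η - Y * X) := map_isNilpotent_ker f hf _ (by rw [Matrix.map_sub _ f.map_sub, h2, sub_self])
  obtain ⟨U, hU⟩ := n1.isUnit_one_sub
  obtain ⟨V, hV⟩ := n2.isUnit_one_sub
  have e1 : X * Y = e * (U : Matrix (Fin m) (Fin m) A) := by
    rw [hU, mul_sub, mul_one, mul_sub, he, ← Matrix.mul_assoc, hX]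
    abel
  have e2 : Y * X = (V : Matrix (Fin r) (Fin r) A) * η := by
    rw [hV, sub_mul, one_mul, sub_mul, hη, Matrix.mul_assoc, hX']
    abel
  set Rt := Y * (↑(U⁻¹) : Matrix (Fin m) (Fin m) A) with hRt
  set L := (↑(V⁻¹) : Matrix (Fin r) (Fin r) A) * Y with hL
  have hR : X * Rt = e := by rw [hRt, ← Matrix.mul_assoc, e1, Matrix.mul_assoc, Units.mul_inv, mul_one]
  have hL' : L * X = η := by rw [hL, Matrix.mul_assoc, e2, ← Matrix.mul_assoc, Units.inv_mul, one_mul]
  have hLe : L * e = η * Rt := by rw [← hR, ← Matrix.mul_assoc, hL']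
  refine ⟨L * e, by rw [Matrix.mul_assoc, hX, hL'], ?_⟩
  rw [hLe, ← Matrix.mul_assoc, hX', hR]

namespace Dat

open Lin

variable {p : ℕ} [Fact p.Prime] {n : ℕ} {R R' : Type u} [CommRing R] [CommRing R'] [Algebra R R']
  {m : ℕ} (D : Dat p n R R' m)

theorem exists_descended [Module.FaithfullyFlat R R'] (hp : IsNilpotent (p : R)) (h0 : 0 < n) :
    ∃ (r : ℕ) (ε : Matrix (Fin r) (Fin r) (TruncatedWittVector p n R))
      (A : Matrix (Fin m) (Fin r) (TruncatedWittVector p n R'))
      (L : Matrix (Fin r) (Fin m) (TruncatedWittVector p n R')),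
      ε * ε = ε ∧ A * ε.map (WittGrp.truncMap p n (algebraMap R R')) = A ∧
      L * A = ε.map (WittGrp.truncMap p n (algebraMap R R')) ∧ A * L = D.e ∧
      ∀ (T : Type u) [CommRing T] [Algebra R T] (a b : R' →ₐ[R] T),
        D.G T a b * A.map (wm p n a) = A.map (wm p n b) := by
  classical
  set k₀ : Fin n := ⟨0, h0⟩ with hk₀
  set c := WittGrp.truncMap p n (algebraMap R R') with hc
  set Dr := D.red k₀ with hDr
  have := (Dr.finite_projective).1
  have := (Dr.finite_projective).2
  obtain ⟨r, g, s, -, -, hgs⟩ := Module.Finite.exists_comp_eq_id_of_projective R Dr.N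
  have hgs' : ∀ y : Dr.N, g (s y) = y := fun y => LinearMap.congr_fun hgs y
  let ε₀ : Matrix (Fin r) (Fin r) R := LinearMap.toMatrix' (s ∘ₗ g)
  have hε₀ : ε₀ * ε₀ = ε₀ := by
    rw [← LinearMap.toMatrix'_comp]
    congr 1
    ext v
    simp [hgs']
  let π : Matrix (Fin r) (Fin r) (TruncatedWittVector p n R) →+* Matrix (Fin r) (Fin r) R :=
    (gh k₀).mapMatrix
  have nilR : ∀ x : TruncatedWittVector p n R, gh k₀ x = 0 → IsNilpotent x := fun x hx =>
    isNilpotent_of_mem_fil_one hp (mem_fil_succ k₀ (mem_fil_zero x) ((gh_zero h0 x).symm.trans hx))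
  have hp' : IsNilpotent (p : R') := by simpa using hp.map (algebraMap R R')
  have nilR' : ∀ x : TruncatedWittVector p n R', gh k₀ x = 0 → IsNilpotent x := fun x hx =>
    isNilpotent_of_mem_fil_one hp' (mem_fil_succ k₀ (mem_fil_zero x) ((gh_zero h0 x).symm.trans hx))
  have hrange : ε₀ ∈ π.range := ⟨Matrix.of fun i j => single k₀ (ε₀ i j), Matrix.ext fun i j => by
    show gh k₀ (single k₀ (ε₀ i j)) = _
    rw [gh_zero h0, coeff_single]⟩
  obtain ⟨ε, hε, hεmap⟩ := exists_isIdempotentElem_eq_of_ker_isNilpotent π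
    (fun M hM => map_isNilpotent_ker (gh k₀) nilR M hM) ε₀ hrange hε₀
  -- invariant lifts of the generators
  have hx := fun i : Fin r => D.exists_inv_lift h0 (g (Pi.single i 1)).2
  choose x hxinv hxe hxy using hx
  let X₀ : Matrix (Fin m) (Fin r) (TruncatedWittVector p n R') := Matrix.of fun i j => x j i
  have hX₀e : D.e * X₀ = X₀ := Matrix.ext fun i j => congrFun (hxe j) i
  let η := ε.map c
  have hη : η * η = η := by
    show ε.map c * ε.map c = ε.map c
    rw [← Matrix.map_mul, hε.eq]
  let A := X₀ * η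
  -- the inverse at the bottom level
  have hcol : ∀ j : Fin m, ∃ z : R' ⊗[R] Dr.N, Dr.cmp z = fun i => Dr.e i j := fun j => by
    have : (fun i => Dr.e i j) ∈ LinearMap.range Dr.e.mulVecLin := ⟨Pi.single j 1, by
      rw [Matrix.mulVecLin_apply, Matrix.mulVec_single_one]; rfl⟩
    rw [← Dr.range_cmp] at this
    exact this
  choose z hz using hcol
  let hh : R' ⊗[R] Dr.N →ₗ[R'] (Fin r → R') :=
    LinearMap.liftBaseChange R' ((Algebra.linearMap R R').compLeft (Fin r) ∘ₗ s)
  let Yb : Matrix (Fin r) (Fin m) R' := Matrix.of fun i j => hh (z j) i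
  let Xb : Matrix (Fin m) (Fin r) R' := Matrix.of fun i j => (g (Pi.single j 1) : Fin m → R') i
  let ε' : Matrix (Fin r) (Fin r) R' := ε₀.map (algebraMap R R')
  have hXb : ∀ v : Fin r → R, Xb *ᵥ (algebraMap R R' ∘ v) = (g v : Fin m → R') := fun v => by
    funext i
    have hv : v = ∑ j, v j • (Pi.single j (1 : R) : Fin r → R) := by
      funext l; simp [Pi.single_apply]
    conv_rhs => rw [hv]
    simp only [map_sum, map_smul, Submodule.coe_sum, Submodule.coe_smul, Finset.sum_apply, Pi.smul_apply,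
      Matrix.mulVec, dotProduct, Function.comp_apply]
    simp only [Algebra.smul_def]
    exact Finset.sum_congr rfl fun j _ => mul_comm _ _
  have hXh : ∀ w : R' ⊗[R] Dr.N, Xb *ᵥ hh w = Dr.cmp w := fun w => by
    induction w using TensorProduct.induction_on with
    | zero => simp
    | add a b ha hb => simp only [map_add, Matrix.mulVec_add, ha, hb]
    | tmul t y =>
      simp only [hh, Lin.cmp, LinearMap.liftBaseChange_tmul, Matrix.mulVec_smul]
      congr 1
      exact (hXb (s y)).trans (congrArg Subtype.val (hgs' y))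
  have hXY : Xb * Yb = Dr.e := Matrix.ext fun i j => (congrFun (hXh (z j)) i).trans (congrFun (hz j) i)
  have hYX : Yb * Xb = ε' := Matrix.ext fun i l => by
    have h1 : Dr.cmp (∑ j, Xb j l • z j) = Dr.cmp ((1 : R') ⊗ₜ[R] g (Pi.single l 1)) := by
      simp only [map_sum, map_smul, hz]
      simp only [Lin.cmp, LinearMap.liftBaseChange_tmul, one_smul]
      refine Eq.trans ?_ (Dr.e_mulVec_of_mem (g (Pi.single l 1)).2)
      funext a
      simp only [Finset.sum_apply, Pi.smul_apply, smul_eq_mul, Matrix.mulVec, dotProduct]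
      show ∑ j, Xb j l * Dr.e a j = ∑ j, Dr.e a j * Xb j l
      exact Finset.sum_congr rfl fun j _ => mul_comm _ _
    have h2 := congrArg (fun w => hh w i) (Dr.cmp_injective h1)
    simp only [map_sum, map_smul, Finset.sum_apply, Pi.smul_apply, smul_eq_mul] at h2
    refine (Finset.sum_congr rfl fun j _ => mul_comm _ _).trans (h2.trans ?_)
    simp only [hh, LinearMap.liftBaseChange_tmul, one_smul]
    show algebraMap R R' (s (g (Pi.single l 1)) i) = _
    simp only [ε', ε₀, Matrix.map_apply, LinearMap.toMatrix'_apply, LinearMap.comp_apply]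
  have hXε : Xb * ε' = Xb := Matrix.ext fun i l => by
    have := congrFun (hXb (s (g (Pi.single l 1)))) i
    rw [hgs'] at this
    refine Eq.trans ?_ this
    rw [Matrix.mul_apply]
    refine Finset.sum_congr rfl fun j _ => ?_
    simp only [ε', ε₀, Matrix.map_apply, LinearMap.toMatrix'_apply, LinearMap.comp_apply, Function.comp_apply]
  let Y₀ : Matrix (Fin r) (Fin m) (TruncatedWittVector p n R') := Matrix.of fun i j => single k₀ (Yb i j)
  have hη0 : η.map (gh k₀) = ε' := by
    rw [Matrix.map_map]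
    show _ = ε₀.map (algebraMap R R')
    rw [← hεmap]
    exact Matrix.ext fun i j => gh_map (algebraMap R R') k₀ (ε i j)
  have hA0 : A.map (gh k₀) = Xb := by
    show (X₀ * η).map (gh k₀) = Xb
    rw [Matrix.map_mul, hη0, show X₀.map (gh k₀) = Xb from Matrix.ext fun i j => congrFun (hxy j) i, hXε]
  have hY0 : (η * Y₀ * D.e).map (gh k₀) = ε' * Yb * Dr.e := by
    rw [Matrix.map_mul, Matrix.map_mul, hη0]
    congr 2
    exact Matrix.ext fun i j => by
      show gh k₀ (single k₀ (Yb i j)) = _
      rw [gh_zero h0, coeff_single]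
  obtain ⟨L, hL1, hL2⟩ := exists_inverse_of_nilpotent (gh k₀) nilR' D.e η D.e_idem hη A
    (by show D.e * (X₀ * η) = X₀ * η; rw [← Matrix.mul_assoc, hX₀e])
    (by show X₀ * η * η = X₀ * η; rw [Matrix.mul_assoc, hη])
    (η * Y₀ * D.e) (by rw [← Matrix.mul_assoc, ← Matrix.mul_assoc, hη])
    (by rw [Matrix.mul_assoc, D.e_idem])
    (by rw [Matrix.map_mul, hA0, hY0, ← Matrix.mul_assoc, ← Matrix.mul_assoc, hXε, hXY]; exact Dr.e_idem)
    (by
      rw [Matrix.map_mul, hA0, hY0, hη0, Matrix.mul_assoc, show Dr.e * Xb = Xb from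
        Matrix.ext fun i j => congrFun (Dr.e_mulVec_of_mem (g (Pi.single j 1)).2) i,
        Matrix.mul_assoc, hYX, ← Matrix.map_mul, hε₀])
  refine ⟨r, ε, A, L, hε.eq, by show X₀ * η * η = X₀ * η; rw [Matrix.mul_assoc, hη], hL1, hL2, ?_⟩
  intro T _ _ a b
  show D.G T a b * (X₀ * η).map (wm p n a) = (X₀ * η).map (wm p n b)
  have hab : η.map (wm p n a) = η.map (wm p n b) := by
    show (ε.map c).map _ = (ε.map c).map _
    rw [Matrix.map_map, Matrix.map_map]
    exact congrArg ε.map (funext fun x => by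
      show (wm p n a).comp c x = (wm p n b).comp c x
      rw [hc, wm, wm, ← WittGrp.truncMap_comp, ← WittGrp.truncMap_comp]
      exact congrArg (fun q => WittGrp.truncMap p n q x) (a.comp_algebraMap.trans b.comp_algebraMap.symm))
  rw [Matrix.map_mul, Matrix.map_mul, ← Matrix.mul_assoc, hab,
    show D.G T a b * X₀.map (wm p n a) = X₀.map (wm p n b) from Matrix.ext fun i j => congrFun (hxinv j T a b) i]

end Dat

end Groth.Agent.H1WittDesc
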