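import Mathlib

/-!
# Extension of scalars on elements
-/

set_option autoImplicit false
set_option backward.isDefEq.respectTransparency false

universe u

open CategoryTheory

open scoped ChangeOfRings

namespace Groth.Agent.H1WittDesc

variable {R₁ R₂ R₃ : Type u} [CommRing R₁] [CommRing R₂] [CommRing R₃]

/-- `z ↦ 1 ⊗ z`, as a semilinear map. -/
noncomputable def one' (f : R₁ →+* R₂) (M : ModuleCat.{u} R₁) :
    M →ₛₗ[f] ((ModuleCat.extendScalars.{u, u, u} f).obj M) where
  toFun m := (1 : R₂) ⊗ₜ[R₁,f] m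
  map_add' a b := TensorProduct.tmul_add _ a b
  map_smul' r m := by
    rw [ModuleCat.ExtendScalars.smul_tmul, mul_one]
    letI := Module.compHom R₂ f
    show _ = (f r) ⊗ₜ[R₁,f] m
    rw [← TensorProduct.smul_tmul]
    exact congrArg (fun z => z ⊗ₜ[R₁,f] m) (show f r * 1 = f r from mul_one _)

theorem one'_apply (f : R₁ →+* R₂) (M : ModuleCat.{u} R₁) (m : M) :
    one' f M m = (1 : R₂) ⊗ₜ[R₁,f] m := rfl

theorem ext_one {f : R₁ →+* R₂} {M : ModuleCat.{u} R₁} {N : ModuleCat.{u} R₂}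
    {α β : (ModuleCat.extendScalars.{u, u, u} f).obj M ⟶ N}
    (h : ∀ m : M, α (one' f M m) = β (one' f M m)) : α = β :=
  ModuleCat.ExtendScalars.hom_ext h

theorem map_one' (f : R₁ →+* R₂) {M N : ModuleCat.{u} R₁} (φ : M ⟶ N) (m : M) :
    (ModuleCat.extendScalars.{u, u, u} f).map φ (one' f M m) = one' f N (φ m) := rfl

/-- Extension of scalars along a composition. -/
noncomputable def xIso (f : R₁ →+* R₂) (g : R₂ →+* R₃) (fg : R₁ →+* R₃) (h : fg = g.comp f)
    (M : ModuleCat.{u} R₁) :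
    (ModuleCat.extendScalars.{u, u, u} fg).obj M ≅
      (ModuleCat.extendScalars.{u, u, u} g).obj ((ModuleCat.extendScalars.{u, u, u} f).obj M) :=
  eqToIso (by rw [h]) ≪≫ (ModuleCat.extendScalarsComp f g).app M

theorem xIso_hom (f : R₁ →+* R₂) (g : R₂ →+* R₃) (fg : R₁ →+* R₃) (h : fg = g.comp f)
    (M : ModuleCat.{u} R₁) (m : M) :
    (xIso f g fg h M).hom (one' fg M m) = one' g _ (one' f M m) := by
  subst h
  simp only [xIso, eqToIso_refl, Iso.refl_trans, Iso.app_hom]
  exact ModuleCat.extendScalarsComp_hom_app_one_tmul f g M m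

theorem xIso_inv (f : R₁ →+* R₂) (g : R₂ →+* R₃) (fg : R₁ →+* R₃) (h : fg = g.comp f)
    (M : ModuleCat.{u} R₁) (m : M) :
    (xIso f g fg h M).inv (one' g _ (one' f M m)) = one' fg M m := by
  rw [← xIso_hom f g fg h M m]
  exact (xIso f g fg h M).hom_inv_id_apply _

theorem extendScalarsComp_inv_one (f : R₁ →+* R₂) (g : R₂ →+* R₃) (M : ModuleCat.{u} R₁) (m : M) :
    (ModuleCat.extendScalarsComp f g).inv.app M (one' g _ (one' f M m)) = one' (g.comp f) M m := by
  have h : (ModuleCat.extendScalarsComp f g).hom.app M (one' (g.comp f) M m) =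
      one' g _ (one' f M m) := ModuleCat.extendScalarsComp_hom_app_one_tmul f g M m
  rw [← h]
  exact ((ModuleCat.extendScalarsComp f g).app M).hom_inv_id_apply _

theorem comp_eq_id (f : R₁ →+* R₂) (g : R₂ →+* R₃) (fg : R₁ →+* R₃) (M : ModuleCat.{u} R₁)
    (α : (ModuleCat.extendScalars.{u, u, u} fg).obj M ⟶
      (ModuleCat.extendScalars.{u, u, u} g).obj ((ModuleCat.extendScalars.{u, u, u} f).obj M))
    (β : (ModuleCat.extendScalars.{u, u, u} g).obj ((ModuleCat.extendScalars.{u, u, u} f).obj M) ⟶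
      (ModuleCat.extendScalars.{u, u, u} fg).obj M)
    (hα : ∀ m : M, α (one' fg M m) = one' g _ (one' f M m))
    (hβ : ∀ m : M, β (one' g _ (one' f M m)) = one' fg M m) : α ≫ β = 𝟙 _ :=
  ext_one fun m => (congrArg β (hα m)).trans (hβ m)

end Groth.Agent.H1WittDesc
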