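import Groth.Agent.H1WittDesc.PF
import Groth.Agent.H1WittDesc.Alg
import Mathlib

/-!
# Full faithfulness
-/

set_option autoImplicit false
set_option backward.isDefEq.respectTransparency false

universe u v w

open CategoryTheory Opposite TensorProduct

namespace Groth.Agent.H1WittDesc

variable {D : Type w} [Category.{v} D] (P : Dᵒᵖ ⥤ CommRingCat.{u}) {X Y Z : D}

theorem gen {C : Type w} [Category.{v} C] (H : Pseudofunctor (LocallyDiscrete Cᵒᵖ) Cat.{u, u + 1}) {X Y Z : C}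
    (c : Y ⟶ X) {M N : H.obj (.mk (op X))}
    (Φ : (H.toDescentData (fun _ : PUnit.{u + 1} => c)).obj M ⟶
      (H.toDescentData (fun _ : PUnit.{u + 1} => c)).obj N)
    (q : Z ⟶ X) (f₁ f₂ : Z ⟶ Y) (hf₁ : f₁ ≫ c = q) (hf₂ : f₂ ≫ c = q) :
    (H.map f₁.op.toLoc).toFunctor.map (Φ.hom PUnit.unit) ≫
        (H.mapComp' c.op.toLoc f₁.op.toLoc q.op.toLoc (by rw [← hf₁]; rfl)).inv.toNatTrans.app N ≫
        (H.mapComp' c.op.toLoc f₂.op.toLoc q.op.toLoc (by rw [← hf₂]; rfl)).hom.toNatTrans.app N =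
      ((H.mapComp' c.op.toLoc f₁.op.toLoc q.op.toLoc (by rw [← hf₁]; rfl)).inv.toNatTrans.app M ≫
        (H.mapComp' c.op.toLoc f₂.op.toLoc q.op.toLoc (by rw [← hf₂]; rfl)).hom.toNatTrans.app M) ≫
        (H.map f₂.op.toLoc).toFunctor.map (Φ.hom PUnit.unit) :=
  Φ.comm (i₁ := PUnit.unit) (i₂ := PUnit.unit) q f₁ f₂ hf₁ hf₂

theorem comm_of_hom (c : Y ⟶ X) {M N : ModuleCat.{u} (P.obj (op X))}
    (Φ : ((G P).toDescentData (fun _ : PUnit.{u + 1} => c)).obj M ⟶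
      ((G P).toDescentData (fun _ : PUnit.{u + 1} => c)).obj N)
    (q : Z ⟶ X) (f₁ f₂ : Z ⟶ Y) (hf₁ : f₁ ≫ c = q) (hf₂ : f₂ ≫ c = q) :
    (ModuleCat.extendScalars.{u, u, u} (rho P f₁)).map (Φ.hom PUnit.unit) ≫
        cInv P c f₁ q hf₁ N ≫ cHom P c f₂ q hf₂ N =
      (cInv P c f₁ q hf₁ M ≫ cHom P c f₂ q hf₂ M) ≫
        (ModuleCat.extendScalars.{u, u, u} (rho P f₂)).map (Φ.hom PUnit.unit) := by
  rw [← map_eq P f₁, ← map_eq P f₂]
  exact gen (G P) c Φ q f₁ f₂ hf₁ hf₂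

theorem toDescentData_map_bijective (c : Y ⟶ X) (f₁ f₂ : Z ⟶ Y) (q : Z ⟶ X)
    (hf₁ : f₁ ≫ c = q) (hf₂ : f₂ ≫ c = q) (M N : ModuleCat.{u} (P.obj (op X)))
    (hinj : letI := (rho P c).toAlgebra;
      Function.Injective (fun m : N => m ⊗ₜ[P.obj (op X)] (1 : P.obj (op Y))))
    (hex : letI := (rho P c).toAlgebra
      letI := (rho P q).toAlgebra
      ∀ x : N ⊗[P.obj (op X)] P.obj (op Y),
        LinearMap.lTensor N (AlgHom.toLinearMap
          (⟨rho P f₁, fun r => (RingHom.congr_fun (rho_comp P c f₁ q hf₁) r).symm⟩ :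
            P.obj (op Y) →ₐ[P.obj (op X)] P.obj (op Z))) x =
        LinearMap.lTensor N (AlgHom.toLinearMap
          (⟨rho P f₂, fun r => (RingHom.congr_fun (rho_comp P c f₂ q hf₂) r).symm⟩ :
            P.obj (op Y) →ₐ[P.obj (op X)] P.obj (op Z))) x →
        ∃ m : N, m ⊗ₜ[P.obj (op X)] (1 : P.obj (op Y)) = x) :
    Function.Bijective (fun φ : M ⟶ N =>
      ((G P).toDescentData (fun _ : PUnit.{u + 1} => c)).map φ) := by
  constructor
  · intro φ ψ h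
    have e := congrArg (fun a => Pseudofunctor.DescentData.Hom.hom a PUnit.unit) h
    exact map_injective (rho P c) hinj ((map_eq P c φ).symm.trans (e.trans (map_eq P c ψ)))
  · intro Φ
    obtain ⟨φ, hφ⟩ := exists_map_eq (rho P c) (rho P f₁) (rho P f₂) (rho P q)
      (rho_comp P c f₁ q hf₁) (rho_comp P c f₂ q hf₂) hinj hex (Φ.hom PUnit.unit)
      (cInv P c f₁ q hf₁ M) (cInv_one P c f₁ q hf₁ M) (cHom P c f₂ q hf₂ M) (cHom_one P c f₂ q hf₂ M)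
      (cInv P c f₁ q hf₁ N) (cInv_one P c f₁ q hf₁ N) (cHom P c f₂ q hf₂ N)
      (cInv P c f₂ q hf₂ N) (cInv_one P c f₂ q hf₂ N)
      (comp_eq_id (rho P c) (rho P f₂) (rho P q) N _ _ (cHom_one P c f₂ q hf₂ N) (cInv_one P c f₂ q hf₂ N))
      (comm_of_hom P c Φ q f₁ f₂ hf₁ hf₂)
    refine ⟨φ, Pseudofunctor.DescentData.hom_ext fun i => ?_⟩
    obtain ⟨⟩ := i
    exact (map_eq P c φ).trans hφ

end Groth.Agent.H1WittDesc
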