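import Groth.Agent.WittProj.Basic
import Groth.Prelude.Def_WittGrp

/-!
# The layers of truncated Witt vectors
-/

set_option autoImplicit false

universe u

namespace Groth.Agent.H1WittDesc

open Groth.Agent.WittProj

variable {p : ℕ} [hpf : Fact p.Prime] {n : ℕ} {T T' : Type u} [CommRing T] [CommRing T']

theorem ghostComponent_eq_zero {k : ℕ} (x : WittVector p T) (hx : ∀ i ≤ k, x.coeff i = 0) :
    WittVector.ghostComponent k x = 0 := by
  rw [WittVector.ghostComponent_apply, aeval_wittPolynomial]
  refine Finset.sum_eq_zero fun i hi => ?_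
  rw [hx i (Nat.lt_succ_iff.1 (Finset.mem_range.1 hi)), zero_pow (pow_ne_zero _ hpf.out.ne_zero), mul_zero]

theorem ghostComponent_map (f : T →+* T') (k : ℕ) (x : WittVector p T) :
    WittVector.ghostComponent k (WittVector.map f x) = f (WittVector.ghostComponent k x) := by
  rw [WittVector.ghostComponent_apply, WittVector.ghostComponent_apply, aeval_wittPolynomial,
    aeval_wittPolynomial, map_sum]
  refine Finset.sum_congr rfl fun i _ => ?_
  rw [map_mul, map_pow, map_pow, map_natCast, WittVector.map_coeff]

/-- The ghost component on truncated Witt vectors. -/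
noncomputable def gh (k : Fin n) : TruncatedWittVector p n T →+* T :=
  RingHom.liftOfSurjective (WittVector.truncate (p := p) (R := T) n) (WittVector.truncate_surjective p n T)
    ⟨WittVector.ghostComponent (k : ℕ), fun x hx => ghostComponent_eq_zero x fun i hi =>
      (WittVector.mem_ker_truncate n x).1 hx i (lt_of_le_of_lt hi k.isLt)⟩

theorem gh_truncate (k : Fin n) (x : WittVector p T) :
    gh k (WittVector.truncate n x) = WittVector.ghostComponent (k : ℕ) x :=
  RingHom.liftOfSurjective_comp_apply _ _ _ x

theorem gh_map (f : T →+* T') (k : Fin n) (x : TruncatedWittVector p n T) :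
    gh k (WittGrp.truncMap p n f x) = f (gh k x) := by
  obtain ⟨X, rfl⟩ := WittVector.truncate_surjective p n T x
  rw [WittGrp.truncMap_truncate, gh_truncate, gh_truncate, ghostComponent_map]

theorem gh_zero (h : 0 < n) (x : TruncatedWittVector p n T) :
    gh (⟨0, h⟩ : Fin n) x = x.coeff ⟨0, h⟩ := by
  obtain ⟨X, rfl⟩ := WittVector.truncate_surjective p n T x
  rw [gh_truncate, WittVector.coeff_truncate, WittVector.ghostComponent_apply, aeval_wittPolynomial]
  simp

/-- The vectors whose first `k` coefficients vanish. -/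
noncomputable def fil (k : ℕ) : Ideal (TruncatedWittVector p n T) :=
  (WittProj.I p T k).map (WittVector.truncate n)

theorem mem_fil {k : ℕ} {x : TruncatedWittVector p n T} :
    x ∈ fil k ↔ ∀ i : Fin n, (i : ℕ) < k → x.coeff i = 0 := by
  unfold fil
  rw [Ideal.mem_map_iff_of_surjective _ (WittVector.truncate_surjective p n T)]
  constructor
  · rintro ⟨X, hX, rfl⟩ i hi
    rw [WittVector.coeff_truncate]
    exact (mem_I_iff k X).1 hX i hi
  · intro h
    refine ⟨WittVector.mk p fun i => if hi : i < n then x.coeff ⟨i, hi⟩ else 0, (mem_I_iff k _).2 fun i hi => ?_,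
      TruncatedWittVector.ext fun i => ?_⟩
    · rw [WittVector.coeff_mk]
      by_cases hn : i < n
      · rw [dif_pos hn]; exact h ⟨i, hn⟩ hi
      · rw [dif_neg hn]
    · rw [WittVector.coeff_truncate, WittVector.coeff_mk, dif_pos i.isLt]

theorem eq_zero_of_mem_fil {x : TruncatedWittVector p n T} (h : x ∈ fil n) : x = 0 :=
  TruncatedWittVector.ext fun i => by rw [mem_fil.1 h i i.isLt, TruncatedWittVector.coeff_zero]

theorem mem_fil_zero (x : TruncatedWittVector p n T) : x ∈ fil 0 :=
  mem_fil.2 fun i hi => absurd hi (Nat.not_lt_zero _)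

theorem truncMap_mem_fil (f : T →+* T') {k : ℕ} {x : TruncatedWittVector p n T} (h : x ∈ fil k) :
    WittGrp.truncMap p n f x ∈ fil k :=
  mem_fil.2 fun i hi => by rw [WittGrp.coeff_truncMap, mem_fil.1 h i hi, map_zero]

theorem coeff_add_fil (k : Fin n) {x y : TruncatedWittVector p n T} (hx : x ∈ fil (k : ℕ))
    (hy : y ∈ fil (k : ℕ)) : (x + y).coeff k = x.coeff k + y.coeff k := by
  obtain ⟨X, hX, rfl⟩ := (Ideal.mem_map_iff_of_surjective _ (WittVector.truncate_surjective p n T)).1 hx
  obtain ⟨Y, hY, rfl⟩ := (Ideal.mem_map_iff_of_surjective _ (WittVector.truncate_surjective p n T)).1 hy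
  rw [← map_add, WittVector.coeff_truncate, WittVector.coeff_truncate, WittVector.coeff_truncate]
  exact coeff_add_eq hX hY

/-- The `k`-th coefficient on `fil k`. -/
noncomputable def layHom (k : Fin n) : (fil (k : ℕ) : Ideal (TruncatedWittVector p n T)) →+ T where
  toFun x := (x : TruncatedWittVector p n T).coeff k
  map_zero' := by simp
  map_add' x y := coeff_add_fil k x.2 y.2

theorem coeff_sub_fil (k : Fin n) {x y : TruncatedWittVector p n T} (hx : x ∈ fil (k : ℕ))
    (hy : y ∈ fil (k : ℕ)) : (x - y).coeff k = x.coeff k - y.coeff k :=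
  eq_sub_of_add_eq (by rw [← coeff_add_fil k (sub_mem hx hy) hy, sub_add_cancel])

theorem coeff_sum_fil (k : Fin n) {ι : Type*} (s : Finset ι) (x : ι → TruncatedWittVector p n T)
    (hx : ∀ i ∈ s, x i ∈ fil (k : ℕ)) : (∑ i ∈ s, x i).coeff k = ∑ i ∈ s, (x i).coeff k := by
  classical
  induction s using Finset.induction_on with
  | empty => simp [TruncatedWittVector.coeff_zero]
  | insert a s ha ih =>
    rw [Finset.sum_insert ha, Finset.sum_insert ha, coeff_add_fil k (hx a (Finset.mem_insert_self a s))
      (Ideal.sum_mem _ fun i hi => hx i (Finset.mem_insert_of_mem hi)),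
      ih fun i hi => hx i (Finset.mem_insert_of_mem hi)]

theorem coeff_mul_fil (k : Fin n) (w : TruncatedWittVector p n T) {x : TruncatedWittVector p n T}
    (hx : x ∈ fil (k : ℕ)) : (w * x).coeff k = gh k w * x.coeff k := by
  obtain ⟨X, hX, rfl⟩ := (Ideal.mem_map_iff_of_surjective _ (WittVector.truncate_surjective p n T)).1 hx
  obtain ⟨V, rfl⟩ := WittVector.truncate_surjective p n T w
  obtain ⟨a, rfl, ha⟩ := exists_eq_iterate hX
  rw [← map_mul, WittVector.coeff_truncate, WittVector.coeff_truncate, gh_truncate, ← ha, mul_comm V,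
    WittVector.iterate_verschiebung_mul_left, iterate_coeff]
  have h : ((WittVector.frobenius)^[(k : ℕ)] V).coeff 0 = WittVector.ghostComponent (k : ℕ) V := by
    have : ∀ (j i : ℕ) (z : WittVector p T), WittVector.ghostComponent i ((WittVector.frobenius)^[j] z) =
        WittVector.ghostComponent (i + j) z := by
      intro j
      induction j with
      | zero => intro i z; rfl
      | succ j ih =>
        intro i z
        rw [Function.iterate_succ_apply, ih, WittVector.ghostComponent_frobenius]
        rfl
    have h0 := this (k : ℕ) 0 V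
    rw [Nat.zero_add, WittVector.ghostComponent_apply, aeval_wittPolynomial] at h0
    simpa using h0
  show WittVector.constantCoeff (a * _) = _
  rw [map_mul]
  show a.coeff 0 * _ = _
  rw [mul_comm]
  exact congrArg (· * a.coeff 0) h

/-- The vector with only the `k`-th coefficient. -/
noncomputable def single (k : Fin n) (c : T) : TruncatedWittVector p n T :=
  TruncatedWittVector.mk p fun i => if i = k then c else 0

theorem single_mem_fil (k : Fin n) (c : T) : (single k c : TruncatedWittVector p n T) ∈ fil (k : ℕ) :=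
  mem_fil.2 fun i hi => by
    rw [single, TruncatedWittVector.coeff_mk, if_neg]
    rintro rfl; exact lt_irrefl _ hi

theorem coeff_single (k : Fin n) (c : T) : (single k c : TruncatedWittVector p n T).coeff k = c := by
  rw [single, TruncatedWittVector.coeff_mk, if_pos rfl]

theorem mem_fil_succ (k : Fin n) {x : TruncatedWittVector p n T} (hx : x ∈ fil (k : ℕ))
    (h : x.coeff k = 0) : x ∈ fil ((k : ℕ) + 1) :=
  mem_fil.2 fun i hi => by
    rcases Nat.lt_succ_iff_lt_or_eq.1 hi with h' | h'
    · exact mem_fil.1 hx i h'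
    · rw [Fin.ext h']; exact h

theorem isNilpotent_of_mem_fil_one (hp : IsNilpotent (p : T)) {x : TruncatedWittVector p n T}
    (hx : x ∈ fil 1) : IsNilpotent x := by
  obtain ⟨X, hX, rfl⟩ := (Ideal.mem_map_iff_of_surjective _ (WittVector.truncate_surjective p n T)).1 hx
  obtain ⟨k, hk⟩ := exists_pow_mem hp (x := X) (by rw [(mem_I_iff 1 X).1 hX 0 Nat.one_pos]; exact IsNilpotent.zero) n
  exact ⟨k, by rw [← map_pow]; exact RingHom.mem_ker.1 hk⟩

end Groth.Agent.H1WittDesc
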