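import Groth.Agent.H1WittDesc.Full
import Groth.Agent.S16225
import Groth.Prelude.Def_W4c3truncdispsmoothDesc

/-!
# The case of truncated Witt vectors
-/

set_option autoImplicit false
set_option backward.isDefEq.respectTransparency false

universe u

open CategoryTheory Opposite TensorProduct

namespace Groth.Agent.H1WittDesc

variable (p : ℕ) [Fact p.Prime] (n : ℕ)

/-- The functor of truncated Witt vectors. -/
noncomputable abbrev PW : ((CommRingCat.{u})ᵒᵖ)ᵒᵖ ⥤ CommRingCat.{u} :=
  unopUnop CommRingCat.{u} ⋙ W4c3truncdispsmooth.wittTrunc p n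

theorem wittModPF_eq : W4c3truncdispsmooth.wittModPF.{u} p n = G (PW p n) := rfl

theorem bij_transfer {X Y : (CommRingCat.{u})ᵒᵖ} (c : Y ⟶ X)
    (M₀ N₀ : ModuleCat.{u} ((PW p n).obj (op X)))
    (h : Function.Bijective (fun φ : M₀ ⟶ N₀ =>
      ((G (PW p n)).toDescentData (fun _ : PUnit.{u + 1} => c)).map φ)) :
    ∀ (M N : (W4c3truncdispsmooth.wittModPF.{u} p n).obj (.mk (op X))),
      HEq M M₀ → HEq N N₀ → Function.Bijective (fun φ : M ⟶ N =>
      ((W4c3truncdispsmooth.wittModPF.{u} p n).toDescentData (fun _ : PUnit.{u + 1} => c)).map φ) := by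
  rw [wittModPF_eq]
  intro M N hM hN
  obtain rfl := eq_of_heq hM
  obtain rfl := eq_of_heq hN
  exact h

theorem exact_witt (R R' : Type u) [CommRing R] [CommRing R'] [Algebra R R'] [Module.FaithfullyFlat R R']
    (hp : IsNilpotent (p : R)) (N : Type u) [AddCommGroup N] [Module (TruncatedWittVector p n R) N]
    [Module.Flat (TruncatedWittVector p n R) N]
    (ρc : TruncatedWittVector p n R →+* TruncatedWittVector p n R')
    (hc : ρc = WittGrp.truncMap p n (algebraMap R R'))
    (ρq : TruncatedWittVector p n R →+* TruncatedWittVector p n (TensorProduct R R' R'))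
    (hq : ρq = WittGrp.truncMap p n (algebraMap R (TensorProduct R R' R')))
    (ρ₁ ρ₂ : TruncatedWittVector p n R' →+* TruncatedWittVector p n (TensorProduct R R' R'))
    (hρ₁ : ρ₁ = WittGrp.truncMap p n (Algebra.TensorProduct.includeLeftRingHom : R' →+* TensorProduct R R' R'))
    (hρ₂ : ρ₂ = WittGrp.truncMap p n ((Algebra.TensorProduct.includeRight : R' →ₐ[R] TensorProduct R R' R') : R' →+* TensorProduct R R' R'))
    (h₁ : ρq = ρ₁.comp ρc) (h₂ : ρq = ρ₂.comp ρc) :
    letI := ρc.toAlgebra
    letI := ρq.toAlgebra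
    Function.Injective (fun m : N => m ⊗ₜ[TruncatedWittVector p n R] (1 : TruncatedWittVector p n R')) ∧
      ∀ x : N ⊗[TruncatedWittVector p n R] TruncatedWittVector p n R',
        LinearMap.lTensor N (AlgHom.toLinearMap (⟨ρ₁, fun r => (RingHom.congr_fun h₁ r).symm⟩ :
          TruncatedWittVector p n R' →ₐ[TruncatedWittVector p n R] TruncatedWittVector p n (TensorProduct R R' R'))) x =
        LinearMap.lTensor N (AlgHom.toLinearMap (⟨ρ₂, fun r => (RingHom.congr_fun h₂ r).symm⟩ :
          TruncatedWittVector p n R' →ₐ[TruncatedWittVector p n R] TruncatedWittVector p n (TensorProduct R R' R'))) x →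
        ∃ m : N, m ⊗ₜ[TruncatedWittVector p n R] (1 : TruncatedWittVector p n R') = x := by
  letI := ρc.toAlgebra
  letI := ρq.toAlgebra
  exact Groth.Agent.S16225.result p n R R' hp hc hq ⟨ρ₁, fun r => (RingHom.congr_fun h₁ r).symm⟩
    ⟨ρ₂, fun r => (RingHom.congr_fun h₂ r).symm⟩ hρ₁ hρ₂ N

theorem bij_gen {X Y Z : (CommRingCat.{u})ᵒᵖ} (c : Y ⟶ X) (f₁ f₂ : Z ⟶ Y) (q : Z ⟶ X)
    (hf₁ : f₁ ≫ c = q) (hf₂ : f₂ ≫ c = q) (M N : ModuleCat.{u} (TruncatedWittVector p n X.unop))
    (he : ∀ (h₁ : WittGrp.truncMap p n q.unop.hom =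
        (WittGrp.truncMap p n f₁.unop.hom).comp (WittGrp.truncMap p n c.unop.hom))
      (h₂ : WittGrp.truncMap p n q.unop.hom =
        (WittGrp.truncMap p n f₂.unop.hom).comp (WittGrp.truncMap p n c.unop.hom)),
      letI := (WittGrp.truncMap p n c.unop.hom).toAlgebra
      letI := (WittGrp.truncMap p n q.unop.hom).toAlgebra
      Function.Injective (fun m : N => m ⊗ₜ[TruncatedWittVector p n X.unop] (1 : TruncatedWittVector p n Y.unop)) ∧
        ∀ x : N ⊗[TruncatedWittVector p n X.unop] TruncatedWittVector p n Y.unop,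
          LinearMap.lTensor N (AlgHom.toLinearMap (⟨WittGrp.truncMap p n f₁.unop.hom, fun r => (RingHom.congr_fun h₁ r).symm⟩ :
            TruncatedWittVector p n Y.unop →ₐ[TruncatedWittVector p n X.unop] TruncatedWittVector p n Z.unop)) x =
          LinearMap.lTensor N (AlgHom.toLinearMap (⟨WittGrp.truncMap p n f₂.unop.hom, fun r => (RingHom.congr_fun h₂ r).symm⟩ :
            TruncatedWittVector p n Y.unop →ₐ[TruncatedWittVector p n X.unop] TruncatedWittVector p n Z.unop)) x →
          ∃ m : N, m ⊗ₜ[TruncatedWittVector p n X.unop] (1 : TruncatedWittVector p n Y.unop) = x) :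
    Function.Bijective (fun φ : M ⟶ N =>
      ((W4c3truncdispsmooth.wittModPF.{u} p n).toDescentData (fun _ : PUnit.{u + 1} => c)).map φ) :=
  bij_transfer p n c M N
    (toDescentData_map_bijective (PW p n) c f₁ f₂ q hf₁ hf₂ M N
      (he (rho_comp (PW p n) c f₁ q hf₁) (rho_comp (PW p n) c f₂ q hf₂)).1
      (he (rho_comp (PW p n) c f₁ q hf₁) (rho_comp (PW p n) c f₂ q hf₂)).2) M N HEq.rfl HEq.rfl

theorem toDescentData_bijective (R R' : Type u) [CommRing R] [CommRing R'] [Algebra R R']
    [Module.FaithfullyFlat R R'] (hp : IsNilpotent (p : R))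
    (M N : ModuleCat.{u} (TruncatedWittVector p n R)) [Module.Flat (TruncatedWittVector p n R) N] :
    Function.Bijective (fun φ : M ⟶ N =>
      ((W4c3truncdispsmooth.wittModPF.{u} p n).toDescentData (fun _ : PUnit.{u + 1} => (CommRingCat.ofHom (algebraMap R R')).op)).map φ) := by
  exact bij_gen p n (CommRingCat.ofHom (algebraMap R R')).op
    (CommRingCat.ofHom (Algebra.TensorProduct.includeLeftRingHom : R' →+* TensorProduct R R' R')).op
    (CommRingCat.ofHom ((Algebra.TensorProduct.includeRight : R' →ₐ[R] TensorProduct R R' R') :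
      R' →+* TensorProduct R R' R')).op
    (CommRingCat.ofHom (algebraMap R (TensorProduct R R' R'))).op
    (Quiver.Hom.unop_inj (CommRingCat.hom_ext (RingHom.ext fun _ => rfl)))
    (Quiver.Hom.unop_inj (CommRingCat.hom_ext (RingHom.ext fun r =>
      (Algebra.TensorProduct.includeRight : R' →ₐ[R] TensorProduct R R' R').commutes r)))
    M N (fun h₁ h₂ => exact_witt p n R R' hp N _ rfl _ rfl _ _ rfl rfl h₁ h₂)

end Groth.Agent.H1WittDesc
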