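import Groth.Agent.H1WittDesc.DD
import Groth.Agent.H1WittDesc.Eff
import Groth.Agent.H1WittDesc.Witt

/-!
# Effectivity of descent for finite projective modules over truncated Witt vectors
-/

set_option autoImplicit false
set_option backward.isDefEq.respectTransparency false

universe u

open CategoryTheory Opposite Matrix

namespace Groth.Agent.H1WittDesc

variable (p : ℕ) [Fact p.Prime] (n : ℕ)

theorem effective_transfer {X Y : (CommRingCat.{u})ᵒᵖ} (c : Y ⟶ X)
    (h : ∀ (D₀ : (G (PW p n)).DescentData (fun _ : PUnit.{u + 1} => c)),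
      Module.Finite ((PW p n).obj (op Y)) (dObj (PW p n) c D₀) →
      Module.Projective ((PW p n).obj (op Y)) (dObj (PW p n) c D₀) →
      ∃ M : ModuleCat.{u} ((PW p n).obj (op X)),
        Module.Finite ((PW p n).obj (op X)) M ∧ Module.Projective ((PW p n).obj (op X)) M ∧
          Nonempty (((G (PW p n)).toDescentData (fun _ : PUnit.{u + 1} => c)).obj M ≅ D₀)) :
    ∀ (D₀ : (W4c3truncdispsmooth.wittModPF.{u} p n).DescentData (fun _ : PUnit.{u + 1} => c))
      (M₀ : ModuleCat.{u} ((PW p n).obj (op Y))), HEq (D₀.obj PUnit.unit) M₀ →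
      Module.Finite ((PW p n).obj (op Y)) M₀ → Module.Projective ((PW p n).obj (op Y)) M₀ →
      ∃ M : ModuleCat.{u} ((PW p n).obj (op X)),
        Module.Finite ((PW p n).obj (op X)) M ∧ Module.Projective ((PW p n).obj (op X)) M ∧
        ∃ M' : (W4c3truncdispsmooth.wittModPF.{u} p n).obj (.mk (op X)), HEq M' M ∧
          Nonempty (((W4c3truncdispsmooth.wittModPF.{u} p n).toDescentData (fun _ : PUnit.{u + 1} => c)).obj M' ≅ D₀) := by
  rw [wittModPF_eq]
  intro D₀ M₀ hM hf hp
  obtain rfl := eq_of_heq hM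
  obtain ⟨M, h1, h2, h3⟩ := h D₀ hf hp
  exact ⟨M, h1, h2, M, HEq.rfl, h3⟩

theorem idemMod_finite_projective {A : Type u} [CommRing A] {l : ℕ} (ε : Matrix (Fin l) (Fin l) A)
    (hε : ε * ε = ε) : Module.Finite A (idemMod ε) ∧ Module.Projective A (idemMod ε) := by
  refine ⟨Module.Finite.range ε.mulVecLin, ?_⟩
  refine Module.Projective.of_split (LinearMap.range ε.mulVecLin).subtype ε.mulVecLin.rangeRestrict ?_
  refine LinearMap.ext fun v => Subtype.ext ?_
  exact idemMod_mulVec ε hε v

variable {R R' : Type u} [CommRing R] [CommRing R'] [Algebra R R']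

/-- The base morphism. -/
abbrev base (R R' : Type u) [CommRing R] [CommRing R'] [Algebra R R'] :
    op (CommRingCat.of R') ⟶ op (CommRingCat.of R) := (CommRingCat.ofHom (algebraMap R R')).op

/-- The morphism of an algebra map. -/
abbrev opHom {A B : Type u} [CommRing A] [CommRing B] (a : A →+* B) :
    op (CommRingCat.of B) ⟶ op (CommRingCat.of A) := (CommRingCat.ofHom a).op

theorem opHom_comp {T : Type u} [CommRing T] [Algebra R T] (a : R' →ₐ[R] T) :
    opHom a.toRingHom ≫ base R R' = opHom (algebraMap R T) :=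
  Quiver.Hom.unop_inj (CommRingCat.hom_ext a.comp_algebraMap)

/-- The coordinate datum of a descent datum. -/
noncomputable def toDat (D₀ : (G (PW p n)).DescentData (fun _ : PUnit.{u + 1} => base R R')) {m : ℕ}
    (s : dObj (PW p n) (base R R') D₀ →ₗ[TruncatedWittVector p n R'] (Fin m → TruncatedWittVector p n R'))
    (r : (Fin m → TruncatedWittVector p n R') →ₗ[TruncatedWittVector p n R'] dObj (PW p n) (base R R') D₀)
    (hrs : ∀ x, r (s x) = x) : Dat p n R R' m where
  e := LinearMap.toMatrix' (s ∘ₗ r)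
  G T _ _ a b := dMat (PW p n) (base R R') D₀ s r (opHom (algebraMap R T)) (opHom a.toRingHom)
    (opHom b.toRingHom) (opHom_comp a) (opHom_comp b)
  G_self T _ _ a := dMat_self (PW p n) (base R R') D₀ s r _ (opHom a.toRingHom) (opHom_comp a)
  G_trans T _ _ a b b' := dMat_trans (PW p n) (base R R') D₀ s r hrs _ (opHom a.toRingHom) (opHom b.toRingHom)
    (opHom b'.toRingHom) (opHom_comp a) (opHom_comp b) (opHom_comp b')
  G_map T T' _ _ _ _ h a b := (dMat_pull (PW p n) (base R R') D₀ s r (opHom (algebraMap R T))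
    (opHom (algebraMap R T')) (opHom h.toRingHom) (Quiver.Hom.unop_inj (CommRingCat.hom_ext h.comp_algebraMap))
    (opHom a.toRingHom) (opHom b.toRingHom) (opHom_comp a) (opHom_comp b)
    (opHom (h.comp a).toRingHom) (opHom (h.comp b).toRingHom) rfl rfl (opHom_comp (h.comp a))
    (opHom_comp (h.comp b))).symm

theorem effective_zero (T : Type u) [CommRing T] : Subsingleton (TruncatedWittVector p 0 T) :=
  ⟨fun _ _ => TruncatedWittVector.ext fun i => i.elim0⟩

theorem exists_matrices [Module.FaithfullyFlat R R'] (hp : IsNilpotent (p : R)) {m : ℕ} (D : Dat p n R R' m) :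
    ∃ (r : ℕ) (ε : Matrix (Fin r) (Fin r) (TruncatedWittVector p n R))
      (A : Matrix (Fin m) (Fin r) (TruncatedWittVector p n R'))
      (L : Matrix (Fin r) (Fin m) (TruncatedWittVector p n R')),
      ε * ε = ε ∧ A * ε.map (WittGrp.truncMap p n (algebraMap R R')) = A ∧
      L * A = ε.map (WittGrp.truncMap p n (algebraMap R R')) ∧ A * L = D.e ∧
      ∀ (T : Type u) [CommRing T] [Algebra R T] (a b : R' →ₐ[R] T),
        D.G T a b * A.map (wm p n a) = A.map (wm p n b) := by
  rcases Nat.eq_zero_or_pos n with rfl | h0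
  · have hs := fun (T : Type u) [CommRing T] {a b : ℕ} (M N : Matrix (Fin a) (Fin b) (TruncatedWittVector p 0 T)) =>
      (Matrix.ext fun i j => (effective_zero p T).elim (M i j) (N i j) : M = N)
    exact ⟨0, 0, 0, 0, hs _ _ _, hs _ _ _, hs _ _ _, hs _ _ _, fun T _ _ a b => hs _ _ _⟩
  · exact D.exists_descended hp h0

theorem effective_gen [Module.FaithfullyFlat R R'] (hp : IsNilpotent (p : R))
    (D₀ : (G (PW p n)).DescentData (fun _ : PUnit.{u + 1} => base R R'))
    (hf : Module.Finite (TruncatedWittVector p n R') (dObj (PW p n) (base R R') D₀))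
    (hP : Module.Projective (TruncatedWittVector p n R') (dObj (PW p n) (base R R') D₀)) :
    ∃ M : ModuleCat.{u} (TruncatedWittVector p n R),
      Module.Finite (TruncatedWittVector p n R) M ∧ Module.Projective (TruncatedWittVector p n R) M ∧
        Nonempty (((G (PW p n)).toDescentData (fun _ : PUnit.{u + 1} => base R R')).obj M ≅ D₀) := by
  obtain ⟨m, r, s, -, -, hrs⟩ := Module.Finite.exists_comp_eq_id_of_projective (TruncatedWittVector p n R')
    (dObj (PW p n) (base R R') D₀)
  have hrs' : ∀ x, r (s x) = x := fun x => LinearMap.congr_fun hrs x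
  let Dt := toDat p n D₀ s r hrs'
  obtain ⟨l, ε, A, L, hε, hA, hLA, hAL, hinv⟩ := exists_matrices p n hp Dt
  refine ⟨idemMod ε, (idemMod_finite_projective ε hε).1, (idemMod_finite_projective ε hε).2, ?_⟩
  refine exists_iso_of_inv (PW p n) (base R R') D₀ s r hrs' ε hε A L hA hLA hAL ?_
  intro Z q a b ha hb
  letI : Algebra R Z.unop := q.unop.hom.toAlgebra
  exact hinv Z.unop
    ⟨a.unop.hom, fun t => congrArg (fun f => f.unop.hom t) ha⟩
    ⟨b.unop.hom, fun t => congrArg (fun f => f.unop.hom t) hb⟩

end Groth.Agent.H1WittDesc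

namespace Groth.Agent.H1WittDesc

/-- Every finite projective descent datum is effective. -/
theorem effective (p : ℕ) [Fact p.Prime] (n : ℕ) (R R' : Type u) [CommRing R] [CommRing R'] [Algebra R R']
    [Module.FaithfullyFlat R R'] (hp : IsNilpotent (p : R))
    (D : (W4c3truncdispsmooth.wittModPF.{u} p n).DescentData
      (fun _ : PUnit.{u + 1} => (CommRingCat.ofHom (algebraMap R R')).op))
    [hf : Module.Finite (TruncatedWittVector p n R') (W4c3truncdispsmooth.descObj D)]
    [hP : Module.Projective (TruncatedWittVector p n R') (W4c3truncdispsmooth.descObj D)] :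
    ∃ M : ModuleCat.{u} (TruncatedWittVector p n R),
      Module.Finite (TruncatedWittVector p n R) M ∧ Module.Projective (TruncatedWittVector p n R) M ∧
        Nonempty (((W4c3truncdispsmooth.wittModPF.{u} p n).toDescentData
          (fun _ : PUnit.{u + 1} => (CommRingCat.ofHom (algebraMap R R')).op)).obj M ≅ D) := by
  obtain ⟨M, h1, h2, M', hM', hiso⟩ := effective_transfer p n (base R R')
    (fun D₀ hf hP => effective_gen p n hp D₀ hf hP) D
    (W4c3truncdispsmooth.descObj (R := R) (R' := R') D) HEq.rfl hf hP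
  obtain rfl := eq_of_heq hM'
  exact ⟨M', h1, h2, hiso⟩

end Groth.Agent.H1WittDesc
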