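import Groth.Agent.H1WittDesc.Ext

/-!
# The pseudofunctor of modules pulled back along a functor to rings
-/

set_option autoImplicit false
set_option backward.isDefEq.respectTransparency false

universe u v w

open CategoryTheory Opposite

open scoped ChangeOfRings

namespace Groth.Agent.H1WittDesc

variable {D : Type w} [Category.{v} D] (P : Dᵒᵖ ⥤ CommRingCat.{u}) {X Y Z : D}

/-- The pseudofunctor of modules over the rings of `P`. -/
noncomputable abbrev G := P.toPseudofunctor.comp CommRingCat.moduleCatExtendScalarsPseudofunctor.{u}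

/-- The ring map of a morphism. -/
abbrev rho (f : Y ⟶ X) : P.obj (op X) →+* P.obj (op Y) := (P.map f.op).hom

/-- The pullback functor on morphisms is extension of scalars. -/
theorem map_eq (f : Y ⟶ X) {M N : ModuleCat.{u} (P.obj (op X))} (g : M ⟶ N) :
    ((G P).map f.op.toLoc).toFunctor.map g = (ModuleCat.extendScalars.{u, u, u} (rho P f)).map g := rfl

theorem rho_comp (f : Y ⟶ X) (g : Z ⟶ Y) (fg : Z ⟶ X) (h : g ≫ f = fg) :
    rho P fg = (rho P g).comp (rho P f) := by
  subst h; simp [rho]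

/-- The composition map of the pseudofunctor. -/
noncomputable def cHom (f : Y ⟶ X) (g : Z ⟶ Y) (fg : Z ⟶ X) (h : g ≫ f = fg)
    (M : ModuleCat.{u} (P.obj (op X))) :
    (ModuleCat.extendScalars.{u, u, u} (rho P fg)).obj M ⟶
      (ModuleCat.extendScalars.{u, u, u} (rho P g)).obj ((ModuleCat.extendScalars.{u, u, u} (rho P f)).obj M) :=
  ((G P).mapComp' f.op.toLoc g.op.toLoc fg.op.toLoc (by rw [← h]; rfl)).hom.toNatTrans.app M

/-- The inverse of the composition map of the pseudofunctor. -/
noncomputable def cInv (f : Y ⟶ X) (g : Z ⟶ Y) (fg : Z ⟶ X) (h : g ≫ f = fg)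
    (M : ModuleCat.{u} (P.obj (op X))) :
    (ModuleCat.extendScalars.{u, u, u} (rho P g)).obj ((ModuleCat.extendScalars.{u, u, u} (rho P f)).obj M) ⟶
      (ModuleCat.extendScalars.{u, u, u} (rho P fg)).obj M :=
  ((G P).mapComp' f.op.toLoc g.op.toLoc fg.op.toLoc (by rw [← h]; rfl)).inv.toNatTrans.app M

theorem map₂_eqToHom_one' {a b : LocallyDiscrete CommRingCat.{u}} {f g : a ⟶ b} (h : f = g)
    (M : ModuleCat.{u} a.as) (m : M) :
    ConcreteCategory.hom (C := ModuleCat.{u} b.as)
      (X := (ModuleCat.extendScalars.{u, u, u} f.as.hom).obj M)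
      (Y := (ModuleCat.extendScalars.{u, u, u} g.as.hom).obj M)
      ((CommRingCat.moduleCatExtendScalarsPseudofunctor.{u}.map₂ (eqToHom h)).toNatTrans.app M)
      (one' f.as.hom M m) = one' g.as.hom M m := by
  subst h
  simp
  rfl

set_option maxHeartbeats 800000 in
theorem cHom_one (f : Y ⟶ X) (g : Z ⟶ Y) (fg : Z ⟶ X) (h : g ≫ f = fg)
    (M : ModuleCat.{u} (P.obj (op X))) (m : M) :
    cHom P f g fg h M (one' (rho P fg) M m) = one' (rho P g) _ (one' (rho P f) M m) := by
  subst h
  unfold cHom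
  erw [Pseudofunctor.mapComp'_eq_mapComp]
  unfold G
  simp
  refine (congrArg _ (map₂_eqToHom_one' (f := P.toPseudofunctor.map (g ≫ f).op.toLoc)
    (g := P.toPseudofunctor.map f.op.toLoc ≫ P.toPseudofunctor.map g.op.toLoc) (Discrete.ext (P.map_comp f.op g.op)) M m)).trans ?_
  exact ModuleCat.extendScalarsComp_hom_app_one_tmul (rho P f) (rho P g) M m

set_option maxHeartbeats 800000 in
theorem cInv_one (f : Y ⟶ X) (g : Z ⟶ Y) (fg : Z ⟶ X) (h : g ≫ f = fg)
    (M : ModuleCat.{u} (P.obj (op X))) (m : M) :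
    cInv P f g fg h M (one' (rho P g) _ (one' (rho P f) M m)) = one' (rho P fg) M m := by
  subst h
  unfold cInv
  erw [Pseudofunctor.mapComp'_eq_mapComp]
  unfold G
  simp
  erw [extendScalarsComp_inv_one]
  exact map₂_eqToHom_one' (f := P.toPseudofunctor.map f.op.toLoc ≫ P.toPseudofunctor.map g.op.toLoc)
    (g := P.toPseudofunctor.map (g ≫ f).op.toLoc) (Discrete.ext (P.map_comp f.op g.op).symm) M m

end Groth.Agent.H1WittDesc
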